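import Groth.Prelude.Def_W4c5ffgsreadingcourseOT
import Groth.Prelude.Def_CartDual
import Groth.Agent.FinHopf.Power
import Groth.Agent.S18467

/-!
# Power maps and the averaging operators `OortTate.proj`

The maps `[m]`, the eigen-submodules `OortTate.eigenAug` and the projections `OortTate.proj`
of a commutative Hopf algebra killed by `p`, and their behaviour under Cartier duality.
-/

universe u

open scoped TensorProduct
open WithConv SGA3b

namespace Groth.Agent.OortTate

variable {R : Type u} [CommRing R] {A : Type u} [CommRing A] [HopfAlgebra R A]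

local notation "ε" => Bialgebra.counitAlgHom R A

theorem toConv_powConv (n : ℕ) : toConv (powConv R A n) = toConv (AlgHom.id R A) ^ n := rfl

theorem powConv_one : powConv R A 1 = AlgHom.id R A := by
  show ofConv (toConv (AlgHom.id R A) ^ 1) = _
  rw [pow_one]

theorem powConv_zero_apply (a : A) : powConv R A 0 a = algebraMap R A (ε a) := by
  show (toConv (AlgHom.id R A) ^ 0) a = _
  rw [pow_zero, AlgHom.convOne_apply]
  rfl

theorem powConv_comp (m n : ℕ) :
    (powConv R A m).comp (powConv R A n) = powConv R A (m * n) := by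
  apply WithConv.toConv_injective
  show FinHopf.postComp (C := A) (powConv R A m) (toConv (AlgHom.id R A) ^ n) = _
  rw [map_pow, show FinHopf.postComp (C := A) (powConv R A m) (toConv (AlgHom.id R A)) =
    toConv (AlgHom.id R A) ^ m from congrArg toConv (AlgHom.comp_id _), toConv_powConv, pow_mul]

theorem counit_powConv (n : ℕ) (a : A) : ε (powConv R A n a) = ε a := by
  have h : FinHopf.postComp (C := A) ε (toConv (AlgHom.id R A) ^ n) =
      (1 : WithConv (A →ₐ[R] R)) := by
    rw [map_pow, show FinHopf.postComp (C := A) ε (toConv (AlgHom.id R A)) = 1 from rfl, one_pow]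
  exact DFunLike.congr_fun (congrArg ofConv h) a

theorem powConv_eq_of_modEq {p : ℕ} (hp : toConv (AlgHom.id R A) ^ p = 1) {m n : ℕ}
    (h : m % p = n % p) : powConv R A m = powConv R A n := by
  apply WithConv.toConv_injective
  rw [toConv_powConv, toConv_powConv, pow_eq_pow_mod m hp, h, ← pow_eq_pow_mod n hp]

section Action

variable {p : ℕ} [NeZero p]

/-- The action of the units of `ZMod p` by power maps. -/
noncomputable def powAct (hp : toConv (AlgHom.id R A) ^ p = 1) :
    (ZMod p)ˣ →* Module.End R A where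
  toFun m := (powConv R A (m : ZMod p).val).toLinearMap
  map_one' := by
    show (powConv R A (1 : ZMod p).val).toLinearMap = _
    rw [powConv_eq_of_modEq hp (n := 1) (by rw [ZMod.val_one_eq_one_mod, Nat.mod_mod]), powConv_one]
    rfl
  map_mul' m n := by
    show (powConv R A ((m * n : (ZMod p)ˣ) : ZMod p).val).toLinearMap = _
    rw [powConv_eq_of_modEq hp (n := (m : ZMod p).val * (n : ZMod p).val)
      (by rw [Units.val_mul, ZMod.val_mul, Nat.mod_mod]), ← powConv_comp]
    rfl

@[simp] theorem powAct_apply (hp : toConv (AlgHom.id R A) ^ p = 1) (m : (ZMod p)ˣ) (a : A) :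
    powAct hp m a = powConv R A (m : ZMod p).val a := rfl

end Action

section Eigen

variable {p : ℕ} {χ : (ZMod p)ˣ →* Rˣ}

theorem mem_eigenAug {i : ℕ} {f : A} :
    f ∈ _root_.OortTate.eigenAug R A p χ i ↔ ε f = 0 ∧
      ∀ m : (ZMod p)ˣ, powConv R A (m : ZMod p).val f = ((χ m : Rˣ) : R) ^ i • f := by
  simp [_root_.OortTate.eigenAug, Module.End.mem_eigenspace_iff, AlgHom.toLinearMap_apply]

theorem mul_mem_eigenAug {i j : ℕ} {f g : A} (hf : f ∈ _root_.OortTate.eigenAug R A p χ i)
    (hg : g ∈ _root_.OortTate.eigenAug R A p χ j) :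
    f * g ∈ _root_.OortTate.eigenAug R A p χ (i + j) := by
  rw [mem_eigenAug] at *
  refine ⟨by rw [map_mul, hf.1, zero_mul], fun m => ?_⟩
  rw [map_mul, hf.2, hg.2, smul_mul_smul_comm, pow_add]

theorem pow_mem_eigenAug {f : A} (hf : f ∈ _root_.OortTate.eigenAug R A p χ 1) :
    ∀ {t : ℕ}, 1 ≤ t → f ^ t ∈ _root_.OortTate.eigenAug R A p χ t := by
  intro t ht
  induction t, ht using Nat.le_induction with
  | base => simpa using hf
  | succ n _ ih => rw [pow_succ]; exact mul_mem_eigenAug ih hf

theorem chi_pow_eq [Fact p.Prime] (m : (ZMod p)ˣ) (i : ℕ) :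
    ((χ m : Rˣ) : R) ^ i = ((χ m : Rˣ) : R) ^ (i % (p - 1)) := by
  apply pow_eq_pow_mod
  rw [← Units.val_pow_eq_pow_val, ← map_pow, ZMod.units_pow_card_sub_one_eq_one, map_one,
    Units.val_one]

theorem eigenAug_mod [Fact p.Prime] (i : ℕ) :
    _root_.OortTate.eigenAug R A p χ i = _root_.OortTate.eigenAug R A p χ (i % (p - 1)) := by
  ext f
  simp only [mem_eigenAug, chi_pow_eq _ i]

theorem proj_mod [Fact p.Prime] (u : R) (i : ℕ) :
    _root_.OortTate.proj R A p u χ i = _root_.OortTate.proj R A p u χ (i % (p - 1)) := by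
  simp only [_root_.OortTate.proj, chi_pow_eq _ i]

theorem eigenAug_le_ker (i : ℕ) :
    _root_.OortTate.eigenAug R A p χ i ≤ LinearMap.ker (ε).toLinearMap := inf_le_left

variable [NeZero p] {u : R}

theorem proj_apply (i : ℕ) (a : A) :
    _root_.OortTate.proj R A p u χ i a =
      u • ∑ m : (ZMod p)ˣ, ((χ m⁻¹ : Rˣ) : R) ^ i • powConv R A (m : ZMod p).val a := by
  simp [_root_.OortTate.proj, LinearMap.sum_apply, AlgHom.toLinearMap_apply]

theorem counit_proj (i : ℕ) (a : A) (ha : ε a = 0) :
    ε (_root_.OortTate.proj R A p u χ i a) = 0 := by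
  rw [proj_apply, map_smul, map_sum]
  simp only [map_smul, counit_powConv, ha, smul_zero, Finset.sum_const_zero]

theorem powConv_proj (hp : toConv (AlgHom.id R A) ^ p = 1) (i : ℕ) (m : (ZMod p)ˣ) (a : A) :
    powConv R A (m : ZMod p).val (_root_.OortTate.proj R A p u χ i a) =
      ((χ m : Rˣ) : R) ^ i • _root_.OortTate.proj R A p u χ i a := by
  rw [proj_apply, map_smul, map_sum, smul_comm (_ ^ i) u]
  congr 1
  rw [Finset.smul_sum]
  refine Fintype.sum_equiv (Equiv.mulLeft m) _ _ fun n => ?_
  rw [map_smul, smul_smul, ← mul_pow, ← Units.val_mul, ← map_mul]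
  congr 1
  · simp
  · show powAct hp m (powAct hp n a) = powAct hp (m * n) a
    rw [map_mul]
    rfl

theorem proj_mem_eigenAug (hp : toConv (AlgHom.id R A) ^ p = 1) (i : ℕ) {a : A} (ha : ε a = 0) :
    _root_.OortTate.proj R A p u χ i a ∈ _root_.OortTate.eigenAug R A p χ i :=
  mem_eigenAug.2 ⟨counit_proj i a ha, fun m => powConv_proj hp i m a⟩

theorem proj_powConv (hp : toConv (AlgHom.id R A) ^ p = 1) (i : ℕ) (m : (ZMod p)ˣ) (a : A) :
    _root_.OortTate.proj R A p u χ i (powConv R A (m : ZMod p).val a) =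
      ((χ m : Rˣ) : R) ^ i • _root_.OortTate.proj R A p u χ i a := by
  rw [← powConv_proj hp, proj_apply, proj_apply, map_smul, map_sum]
  congr 1
  refine Finset.sum_congr rfl fun n _ => ?_
  rw [map_smul]
  congr 1
  show powAct hp n (powAct hp m a) = powAct hp m (powAct hp n a)
  rw [← Module.End.mul_apply, ← map_mul, mul_comm, map_mul]
  rfl

variable [Fact p.Prime]

theorem card_mul (hu : u * ((p - 1 : ℕ) : R) = 1) (c : A) :
    u • ∑ _m : (ZMod p)ˣ, c = c := by
  rw [Finset.sum_const, Finset.card_univ, ZMod.card_units, ← Nat.cast_smul_eq_nsmul R, smul_smul,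
    hu, one_smul]

theorem proj_eq_self (hu : u * ((p - 1 : ℕ) : R) = 1) {i : ℕ} {f : A}
    (hf : f ∈ _root_.OortTate.eigenAug R A p χ i) : _root_.OortTate.proj R A p u χ i f = f := by
  rw [mem_eigenAug] at hf
  rw [proj_apply]
  conv_rhs => rw [← card_mul (p := p) hu f]
  congr 1
  refine Finset.sum_congr rfl fun m _ => ?_
  rw [hf.2, smul_smul, ← mul_pow, ← Units.val_mul, ← map_mul, inv_mul_cancel, map_one, Units.val_one,
    one_pow, one_smul]

variable (hu : u * ((p - 1 : ℕ) : R) = 1)
  (hχ : ∀ m : (ZMod p)ˣ, m ≠ 1 → IsUnit ((χ m : R) - 1))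
  (hp : toConv (AlgHom.id R A) ^ p = 1)

include hu hχ hp

theorem completeOrthogonalIdempotents_proj :
    CompleteOrthogonalIdempotents fun i : Fin (p - 1) =>
      (_root_.OortTate.proj R A p u χ (i : ℕ) : Module.End R A) := by
  have h := (S18467.result p R u hu χ hχ).map
    (MonoidAlgebra.lift R (Module.End R A) (ZMod p)ˣ (powAct hp)).toRingHom
  have e : ∀ i : ℕ, MonoidAlgebra.lift R (Module.End R A) (ZMod p)ˣ (powAct hp)
      (u • ∑ m : (ZMod p)ˣ, ((χ m⁻¹ : Rˣ) : R) ^ i • MonoidAlgebra.of R (ZMod p)ˣ m) =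
      _root_.OortTate.proj R A p u χ i := by
    intro i
    simp only [map_smul, map_sum, MonoidAlgebra.lift_of, _root_.OortTate.proj]
    rfl
  convert h using 1
  funext i
  exact (e i).symm

theorem sum_proj (a : A) : ∑ i : Fin (p - 1), _root_.OortTate.proj R A p u χ (i : ℕ) a = a := by
  have h := (completeOrthogonalIdempotents_proj (A := A) hu hχ hp).complete
  have := LinearMap.congr_fun h a
  rwa [LinearMap.sum_apply] at this

theorem proj_proj_of_ne {i j : Fin (p - 1)} (hij : i ≠ j) (a : A) :
    _root_.OortTate.proj R A p u χ (i : ℕ) (_root_.OortTate.proj R A p u χ (j : ℕ) a) = 0 := by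
  have h := (completeOrthogonalIdempotents_proj (A := A) hu hχ hp).ortho hij
  exact LinearMap.congr_fun h a

omit hχ in
theorem eigenAug_eq_map (i : ℕ) :
    _root_.OortTate.eigenAug R A p χ i =
      Submodule.map (_root_.OortTate.proj R A p u χ i) (LinearMap.ker (ε).toLinearMap) := by
  ext f
  constructor
  · exact fun hf => ⟨f, eigenAug_le_ker i hf, proj_eq_self hu hf⟩
  · rintro ⟨a, ha, rfl⟩
    exact proj_mem_eigenAug hp i ha

theorem iSup_eigenAug :
    (⨆ i : Fin (p - 1), _root_.OortTate.eigenAug R A p χ (i : ℕ)) = LinearMap.ker (ε).toLinearMap := by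
  refine le_antisymm (iSup_le fun i => eigenAug_le_ker _) fun a ha => ?_
  rw [← sum_proj hu hχ hp a]
  exact Submodule.sum_mem _ fun i _ =>
    Submodule.mem_iSup_of_mem i (proj_mem_eigenAug hp _ ha)

theorem iSupIndep_eigenAug :
    iSupIndep fun i : Fin (p - 1) => _root_.OortTate.eigenAug R A p χ (i : ℕ) := by
  refine fun i => Submodule.disjoint_def.2 fun f hf hf' => ?_
  have hle : (⨆ (j) (_ : j ≠ i), _root_.OortTate.eigenAug R A p χ (j : ℕ)) ≤
      LinearMap.ker (_root_.OortTate.proj R A p u χ (i : ℕ)) := by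
    refine iSup₂_le fun j hj g hg => ?_
    rw [LinearMap.mem_ker, ← proj_eq_self hu hg]
    exact proj_proj_of_ne hu hχ hp (Ne.symm hj) g
  rw [← proj_eq_self hu hf]
  exact hle hf'

end Eigen

section Dual

variable [Coalgebra.IsCocomm R A] [Module.Finite R A] [Module.Projective R A]

open CartDual

/-- The power maps of the dual are the transposes of those of `A`. -/
theorem powConv_dual (n : ℕ) (φ : D R A) (a : A) :
    powConv R (D R A) n φ a = φ (powConv R A n a) := by
  induction n generalizing φ a with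
  | zero =>
    rw [powConv_zero_apply, powConv_zero_apply, Algebra.algebraMap_eq_smul_one,
      Algebra.algebraMap_eq_smul_one]
    simp [coe_apply, LinearMap.convOne_def, mul_comm]
  | succ n ih =>
    have key : ∀ y : D R A ⊗[R] D R A,
        (Algebra.TensorProduct.lift (powConv R (D R A) n) (AlgHom.id R (D R A))
          (fun _ _ => Commute.all _ _) y).ofConv a =
        ev₂ R A y (TensorProduct.map (powConv R A n).toLinearMap LinearMap.id
          (Coalgebra.comul (R := R) a)) := by
      intro y
      induction y using TensorProduct.induction_on with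
      | zero => simp
      | add x y hx hy => simp only [map_add, WithConv.ofConv_add, LinearMap.add_apply, hx, hy]
      | tmul x y =>
        rw [Algebra.TensorProduct.lift_tmul]
        show (powConv R (D R A) n x * y) a = _
        rw [LinearMap.convMul_apply]
        induction Coalgebra.comul (R := R) a using TensorProduct.induction_on with
        | zero => simp
        | add z w hz hw => simp only [map_add, hz, hw]
        | tmul b c => simp [← coe_apply, ih]
    show ((toConv (AlgHom.id R (D R A)) ^ (n + 1)) φ).ofConv a =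
      φ ((toConv (AlgHom.id R A) ^ (n + 1)) a)
    rw [pow_succ (toConv (AlgHom.id R (D R A))), pow_succ (toConv (AlgHom.id R A)),
      AlgHom.convMul_apply, AlgHom.convMul_apply]
    refine (key _).trans ?_
    induction Coalgebra.comul (R := R) a using TensorProduct.induction_on with
    | zero => simp [coe_apply]
    | add z w hz hw => simp only [map_add, hz, hw, coe_apply]
    | tmul b c =>
      rw [TensorProduct.map_tmul, ev₂_coalgebra_comul_tmul, Algebra.TensorProduct.lift_tmul]
      rfl

theorem convPow_id_dual {p : ℕ} (hp : toConv (AlgHom.id R A) ^ p = 1) :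
    toConv (AlgHom.id R (D R A)) ^ p = 1 := by
  have hA : ∀ a, powConv R A p a = powConv R A 0 a := fun a => by
    show (toConv (AlgHom.id R A) ^ p) a = (toConv (AlgHom.id R A) ^ 0) a
    rw [hp, pow_zero]
  rw [← toConv_powConv, ← pow_zero (toConv (AlgHom.id R (D R A))), ← toConv_powConv]
  congr 1
  apply AlgHom.ext
  intro φ
  apply WithConv.ofConv_injective
  ext a
  rw [← coe_apply, ← coe_apply, powConv_dual, powConv_dual, hA]

variable {p : ℕ} [NeZero p] {χ : (ZMod p)ˣ →* Rˣ} {u : R}

theorem proj_dual (i : ℕ) (φ : D R A) (a : A) :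
    _root_.OortTate.proj R (D R A) p u χ i φ a = φ (_root_.OortTate.proj R A p u χ i a) := by
  simp only [proj_apply, coe_apply, WithConv.ofConv_smul, WithConv.ofConv_sum, LinearMap.smul_apply,
    LinearMap.sum_apply, map_smul, map_sum]
  simp only [← coe_apply, powConv_dual]

end Dual

end Groth.Agent.OortTate
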