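import Groth.Agent.OortTate.Pairing

/-!
# The canonical element of `A ⊗ A^D` and the first eigen-component of its logarithm
-/

universe u

open scoped TensorProduct
open WithConv

namespace Groth.Agent.OortTate

local notation "E" => _root_.OortTate.eigenAug

variable {R : Type u} [CommRing R] {A : Type u} [CommRing A] [HopfAlgebra R A]
  [Coalgebra.IsCocomm R A] [Module.Finite R A] [Module.Projective R A]

/-- `a ⊗ φ ↦ (b ↦ φ b • a)`, as a map to the convolution algebra of endomorphisms. -/
noncomputable def theta : A ⊗[R] CartDual.D R A →ₗ[R] WithConv (A →ₗ[R] A) :=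
  TensorProduct.lift (LinearMap.mk₂ R (fun a φ => toConv (φ.ofConv.smulRight a))
    (fun a a' φ => by apply WithConv.ofConv_injective; ext b; simp)
    (fun r a φ => by apply WithConv.ofConv_injective; ext b; simp [smul_comm r])
    (fun a φ φ' => by apply WithConv.ofConv_injective; ext b; simp [add_smul])
    (fun r a φ => by apply WithConv.ofConv_injective; ext b; simp [mul_smul]))

@[simp] theorem theta_tmul (a : A) (φ : CartDual.D R A) (b : A) :
    (theta (a ⊗ₜ[R] φ)).ofConv b = φ b • a := rfl

theorem theta_apply_eq (z : A ⊗[R] CartDual.D R A) (a : A) :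
    (theta z).ofConv a = TensorProduct.rid R A
      (LinearMap.lTensor A ((Module.Dual.eval R A a) ∘ₗ (CartDual.toDual R A).toLinearMap) z) := by
  induction z using TensorProduct.induction_on with
  | zero => simp
  | add v w hv hw => simp [map_add, hv, hw]
  | tmul x φ => simp [CartDual.coe_apply]

theorem theta_mul (z z' : A ⊗[R] CartDual.D R A) : theta (z * z') = theta z * theta z' := by
  let _ : Semiring (A ⊗[R] CartDual.D R A) := inferInstance
  induction z using TensorProduct.induction_on with
  | zero => rw [zero_mul, map_zero, zero_mul]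
  | add v w hv hw => rw [add_mul, map_add, map_add, add_mul, hv, hw]
  | tmul a φ =>
    induction z' using TensorProduct.induction_on with
    | zero => rw [mul_zero, map_zero, mul_zero]
    | add v w hv hw => rw [mul_add, map_add, map_add, mul_add, hv, hw]
    | tmul b ψ =>
      apply WithConv.ofConv_injective
      ext x
      rw [Algebra.TensorProduct.tmul_mul_tmul, theta_tmul, LinearMap.convMul_apply]
      rw [LinearMap.convMul_apply]
      induction Coalgebra.comul (R := R) x using TensorProduct.induction_on with
      | zero => simp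
      | add v w hv hw => simp only [map_add, add_smul, hv, hw]
      | tmul y y' =>
        simp [smul_mul_smul_comm, mul_smul]
        rw [smul_comm]

theorem theta_one : theta (1 : A ⊗[R] CartDual.D R A) = 1 := by
  apply WithConv.ofConv_injective
  ext x
  rw [Algebra.TensorProduct.one_def, theta_tmul, LinearMap.convOne_apply,
    Algebra.algebraMap_eq_smul_one, CartDual.coe_apply, LinearMap.convOne_apply]
  simp [Algebra.smul_def]

/-- `theta` as an algebra map. -/
noncomputable def thetaHom : A ⊗[R] CartDual.D R A →ₐ[R] WithConv (A →ₗ[R] A) :=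
  AlgHom.ofLinearMap theta theta_one theta_mul

theorem theta_injective : Function.Injective (theta (R := R) (A := A)) := by
  obtain ⟨N, f, g, -, -, hfg⟩ := Module.Finite.exists_comp_eq_id_of_projective R A
  have key : ∀ z : A ⊗[R] CartDual.D R A,
      z = ∑ i, (theta z).ofConv (f (Pi.single i 1)) ⊗ₜ[R] toConv (LinearMap.proj i ∘ₗ g) := by
    intro z
    induction z using TensorProduct.induction_on with
    | zero => simp
    | add v w hv hw =>
      conv_lhs => rw [hv, hw]
      simp [map_add, TensorProduct.add_tmul, Finset.sum_add_distrib]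
    | tmul a φ =>
      have hφ : φ = ∑ i, φ (f (Pi.single i 1)) • toConv (LinearMap.proj i ∘ₗ g) := by
        apply WithConv.ofConv_injective
        ext b
        conv_lhs => rw [show b = f (∑ i, g b i • Pi.single i (1 : R)) by
          rw [← pi_eq_sum_univ' (g b)]; exact (LinearMap.congr_fun hfg b).symm]
        simp [map_sum, mul_comm]
      conv_lhs => rw [hφ, TensorProduct.tmul_sum]
      refine Finset.sum_congr rfl fun i _ => ?_
      rw [theta_tmul, TensorProduct.smul_tmul]
  intro z z' hzz
  rw [key z, key z', hzz]

variable {p : ℕ} [Fact p.Prime] {u : R} {χ : (ZMod p)ˣ →* Rˣ}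

theorem Setup.canonical (h : Setup R A p u χ) (δ : A ⊗[R] CartDual.D R A)
    (hδ : ∀ a : A, TensorProduct.rid R A
      (LinearMap.lTensor A ((Module.Dual.eval R A a) ∘ₗ (CartDual.toDual R A).toLinearMap) δ) = a)
    (ϕ : MonoidAlgebra R (Multiplicative (ZMod p)) →ₐ[R] A ⊗[R] CartDual.D R A)
    (hϕ : ϕ (_root_.OortTate.muT R p) = δ) :
    Submodule.span R {ϕ (_root_.OortTate.ygen R p u χ 1)} =
        LinearMap.range (TensorProduct.map (E R A p χ 1).subtype
          (E R (CartDual.D R A) p χ 1).subtype) ∧
      ∀ r : R, r • ϕ (_root_.OortTate.ygen R p u χ 1) = 0 → r = 0 := by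
  obtain ⟨Ψ, hΨT, hΨ⟩ := h.exists_psi
  have hc : (thetaHom (R := R) (A := A)).comp ϕ = Ψ := by
    refine MonoidAlgebra.algHom_ext ?_ (Subsingleton.elim _ _)
    intro g
    have hg : (MonoidAlgebra.single g (1 : R)) = _root_.OortTate.muT R p ^ g.toAdd.val := by
      rw [← map_pow (MonoidAlgebra.of R (Multiplicative (ZMod p))), MonoidAlgebra.of_apply]
      congr 1
      apply Multiplicative.toAdd.injective
      simp
    rw [hg, map_pow ((thetaHom (R := R) (A := A)).comp ϕ), map_pow Ψ]
    congr 1
    rw [AlgHom.comp_apply, hϕ, hΨT]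
    apply WithConv.ofConv_injective
    ext a
    exact (theta_apply_eq δ a).trans (hδ a)
  set y := ϕ (_root_.OortTate.ygen R p u χ 1)
  have hy : theta y = toConv (eProj R A p u χ 1) := by
    rw [← hΨ, ← hc]
    rfl
  refine ⟨le_antisymm ?_ ?_, fun r hr => ?_⟩
  · rw [Submodule.span_singleton_le_iff_mem]
    obtain ⟨N, f, g, -, -, hfg⟩ := Module.Finite.exists_comp_eq_id_of_projective R A
    have hD := h.dual
    refine ⟨∑ i, (⟨eProj R A p u χ 1 (f (Pi.single i 1)), eProj_mem h.hp _ _⟩ : E R A p χ 1) ⊗ₜ[R]
      (⟨eProj R (CartDual.D R A) p u χ 1 (toConv (LinearMap.proj i ∘ₗ g)), eProj_mem hD.hp _ _⟩ :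
        E R (CartDual.D R A) p χ 1), theta_injective ?_⟩
    rw [hy, map_sum, map_sum]
    apply WithConv.ofConv_injective
    ext b
    simp only [WithConv.ofConv_sum, LinearMap.sum_apply, TensorProduct.map_tmul, Submodule.subtype_apply,
      theta_tmul]
    have e : ∀ φ : CartDual.D R A, (eProj R (CartDual.D R A) p u χ 1 φ).ofConv b =
        φ.ofConv (eProj R A p u χ 1 b) := fun φ => by
      have h1 := eProj_mem (u := u) (χ := χ) hD.hp 1 φ
      rw [← apply_eProj h.hu h1, eProj_apply, proj_dual, proj_eq_self h.hu (eProj_mem h.hp 1 b)]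
      have hz : (algebraMap R (CartDual.D R A) (Bialgebra.counitAlgHom R (CartDual.D R A) φ)).ofConv
          (eProj R A p u χ 1 b) = 0 := by
        have := (mem_eigenAug.1 (eProj_mem (u := u) (χ := χ) h.hp 1 b)).1
        simp only [Bialgebra.counitAlgHom_apply] at this
        simp [this]
      rw [WithConv.ofConv_sub, LinearMap.sub_apply, hz, sub_zero]
    simp only [e]
    conv_rhs => rw [← eProj_eq_self h.hu (eProj_mem (u := u) (χ := χ) h.hp 1 b)]
    have hd : ∀ z : A, ∑ i, (g z i) • f (Pi.single i 1) = z := fun z => by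
      have : f (∑ i, g z i • Pi.single i (1 : R)) = z := by
        rw [← pi_eq_sum_univ' (g z)]
        exact LinearMap.congr_fun hfg z
      simpa [map_sum] using this
    conv_rhs => arg 2; rw [← hd (eProj R A p u χ 1 b)]
    simp [map_sum]
  · rintro _ ⟨w, rfl⟩
    induction w using TensorProduct.induction_on with
    | zero => simp
    | add v w hv hw => rw [map_add]; exact add_mem hv hw
    | tmul a ξ =>
      refine Submodule.mem_span_singleton.2 ⟨(ξ : CartDual.D R A) (a : A), theta_injective ?_⟩
      rw [map_smul, hy]
      apply WithConv.ofConv_injective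
      ext b
      simp only [WithConv.ofConv_smul, LinearMap.smul_apply, TensorProduct.map_tmul, Submodule.subtype_apply,
        theta_tmul, ofConv_toConv]
      rw [← apply_eProj h.hu ξ.2 b]
      exact (h.swap (ξ : CartDual.D R A).ofConv (eProj_mem h.hp 1 b) a.2).symm
  · refine h.eq_zero_of_smul_eq_zero' (t := 1) ?_
    have := congrArg theta hr
    rw [map_smul, hy, map_zero] at this
    exact congrArg WithConv.ofConv this

end Groth.Agent.OortTate
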