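import Groth.Agent.OortTate.Pairing
import Groth.Agent.S18471

/-!
# Group schemes of order `p` are determined by the first eigen-submodules of `A` and of its dual
-/

universe u

open scoped TensorProduct
open WithConv

namespace Groth.Agent.OortTate

local notation "E" => _root_.OortTate.eigenAug

variable {R : Type u} [CommRing R] {A : Type u} [CommRing A] [HopfAlgebra R A]

/-- Products of forms against convolution products of endomorphisms. -/
theorem convMul_smul_eq {L₁ L₂ : WithConv (A →ₗ[R] R)} {T₁ T₂ : WithConv (A →ₗ[R] A)} {a b : A} {c d : R}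
    (h₁ : ∀ y, L₁ y • a = c • T₁ y) (h₂ : ∀ y, L₂ y • b = d • T₂ y) (x : A) :
    (L₁ * L₂) x • (a * b) = (c * d) • (T₁ * T₂) x := by
  rw [LinearMap.convMul_apply, LinearMap.convMul_apply]
  induction Coalgebra.comul (R := R) x using TensorProduct.induction_on with
  | zero => simp
  | add v w hv hw => simp only [map_add, add_smul, smul_add, hv, hw]
  | tmul y z =>
    simp only [TensorProduct.map_tmul, LinearMap.mul'_apply]
    rw [← smul_mul_smul_comm, ← smul_mul_smul_comm, h₁, h₂]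

variable [Module.Finite R A] [Module.Projective R A] {p : ℕ} [Fact p.Prime] {u : R}
  {χ : (ZMod p)ˣ →* Rˣ}

theorem prod_mem_eigenAug : ∀ {n : ℕ}, 1 ≤ n → ∀ f : Fin n → E R A p χ 1,
    (∏ i, (f i : A)) ∈ E R A p χ n := by
  intro n hn
  induction n, hn using Nat.le_induction with
  | base => intro f; simp
  | succ n _ ih =>
    intro f
    rw [Fin.prod_univ_castSucc]
    exact mul_mem_eigenAug (ih fun i => f i.castSucc) (f (Fin.last n)).2

namespace Setup

variable (h : Setup R A p u χ)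
include h

theorem prod_mem_one (f : Fin p → E R A p χ 1) : (∏ i, (f i : A)) ∈ E R A p χ 1 := by
  have hp1 := (Fact.out : p.Prime).one_lt
  have := prod_mem_eigenAug (A := A) hp1.le f
  rwa [eigenAug_mod, show p % (p - 1) = 1 % (p - 1) by
    have h2 := Nat.add_mod_right 1 (p - 1)
    rwa [Nat.add_sub_cancel' hp1.le] at h2, ← eigenAug_mod] at this

theorem algHom_ext {B : Type*} [CommRing B] [Algebra R B] {F G : A →ₐ[R] B}
    (hFG : ∀ x ∈ E R A p χ 1, F x = G x) : F = G := by
  refine AlgHom.ext fun a => ?_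
  obtain ⟨w, rfl⟩ := h.lift_surjective a
  induction w using TensorAlgebra.induction with
  | algebraMap r => simp
  | ι x => simpa using hFG x x.2
  | mul a b ha hb => simp [map_mul, ha, hb]
  | add a b ha hb => simp [map_add, ha, hb]

/-- `A` has the universal property of the presentation by `f₁ ⋯ f_p = g`. -/
theorem exists_algHom {B : Type u} [CommRing B] [Algebra R B] (θ₀ : E R A p χ 1 →ₗ[R] B)
    (hrel : ∀ (f : Fin p → E R A p χ 1) (g : E R A p χ 1),
      (g : A) = ∏ i, (f i : A) → θ₀ g = ∏ i, θ₀ (f i)) :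
    ∃ F : A →ₐ[R] B, ∀ x : E R A p χ 1, F x = θ₀ x := by
  set Λ := TensorAlgebra.lift R (E R A p χ 1).subtype
  set Θ := TensorAlgebra.lift R θ₀
  have hker : RingHom.ker Λ.toRingHom ≤ RingHom.ker Θ.toRingHom := by
    show RingHom.ker Λ ≤ RingHom.ker Θ
    rw [h.ker_lift, Ideal.span_le]
    rintro _ ⟨f, g, hg, rfl⟩
    show Θ _ = 0
    rw [map_sub, map_list_prod, List.map_ofFn, List.prod_ofFn, TensorAlgebra.lift_ι_apply, sub_eq_zero,
      hrel f g hg]
    exact Finset.prod_congr rfl fun i _ => TensorAlgebra.lift_ι_apply _ _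
  let Fr : A →+* B := Λ.toRingHom.liftOfRightInverse (Function.surjInv h.lift_surjective)
    (Function.rightInverse_surjInv h.lift_surjective) ⟨Θ.toRingHom, hker⟩
  have hFr : ∀ w, Fr (Λ w) = Θ w := RingHom.liftOfRightInverse_comp_apply _ _ _ _
  refine ⟨{ Fr with commutes' := fun r => ?_ }, fun x => ?_⟩
  · show Fr (algebraMap R A r) = _
    rw [← Λ.commutes, hFr, AlgHom.commutes]
  · show Fr x = _
    have := hFr (TensorAlgebra.ι R x)
    simpa [Λ, Θ] using this

omit [Module.Finite R A] [Module.Projective R A] [Fact p.Prime] h in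
theorem map_mem_pow {B : Type*} [CommRing B] [Algebra R B] {F : A →ₐ[R] B} {M : Submodule R A}
    {N : Submodule R B} (hF : ∀ x ∈ M, F x ∈ N) {t : ℕ} (ht : 1 ≤ t) :
    ∀ x ∈ M ^ t, F x ∈ N ^ t := by
  induction t, ht using Nat.le_induction with
  | base => simpa using hF
  | succ n _ ih =>
    intro x hx
    rw [pow_succ] at hx ⊢
    induction hx using Submodule.mul_induction_on' with
    | mem_mul_mem b hb c hc => rw [map_mul]; exact Submodule.mul_mem_mul (ih b hb) (hF c hc)
    | add b _ c _ hb hc => rw [map_add]; exact add_mem hb hc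

omit [Module.Finite R A] [Module.Projective R A] h in
theorem exists_eq' (i : ℕ) : ∃ t, 1 ≤ t ∧ t ≤ p - 1 ∧ i % (p - 1) = t % (p - 1) ∧
    E R A p χ i = E R A p χ t := by
  have hp2 := (Fact.out : p.Prime).two_le
  have hlt := Nat.mod_lt i (show p - 1 > 0 by omega)
  rcases Nat.eq_zero_or_pos (i % (p - 1)) with h0 | h0
  · refine ⟨p - 1, by omega, le_rfl, by rw [h0, Nat.mod_self], ?_⟩
    rw [eigenAug_mod i, eigenAug_mod (p - 1), h0, Nat.mod_self]
  · refine ⟨i % (p - 1), h0, hlt.le, (Nat.mod_mod _ _).symm, ?_⟩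
    exact eigenAug_mod i

variable [Coalgebra.IsCocomm R A]

omit [Coalgebra.IsCocomm R A] in
theorem eProj_eq_zero {j t : ℕ} (hjt : j % (p - 1) ≠ t % (p - 1)) {y : A} (hy : y ∈ E R A p χ j) :
    eProj R A p u χ t y = 0 := by
  have hp2 := (Fact.out : p.Prime).two_le
  have hy' : y ∈ E R A p χ (j % (p - 1)) := by rwa [← eigenAug_mod]
  rw [eProj_apply, (mem_eigenAug.1 hy).1, map_zero, sub_zero, proj_mod, ← proj_eq_self h.hu hy']
  exact proj_proj_of_ne h.hu h.hχ h.hp
    (i := ⟨t % (p - 1), Nat.mod_lt _ (by omega)⟩) (j := ⟨j % (p - 1), Nat.mod_lt _ (by omega)⟩)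
    (fun e => hjt (congrArg Fin.val e).symm) y

theorem classify {A' : Type u} [CommRing A'] [HopfAlgebra R A'] [Coalgebra.IsCocomm R A']
    [Module.Finite R A'] [Module.Projective R A'] (h' : Setup R A' p u χ)
    (θ : E R A p χ 1 ≃ₗ[R] E R A' p χ 1)
    (hθ : ∀ (f : Fin p → E R A p χ 1) (g : E R A p χ 1),
      (g : A) = ∏ i, (f i : A) → ((θ g : E R A' p χ 1) : A') = ∏ i, ((θ (f i)) : A'))
    (hθD : ∀ (φ : Fin p → E R (CartDual.D R A) p χ 1)
      (φ' : Fin p → E R (CartDual.D R A') p χ 1)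
      (ψ : E R (CartDual.D R A) p χ 1) (ψ' : E R (CartDual.D R A') p χ 1),
      (∀ i, ∀ x : E R A p χ 1,
        CartDual.toDual R A (φ i : CartDual.D R A) (x : A) =
          CartDual.toDual R A' (φ' i : CartDual.D R A') ((θ x : E R A' p χ 1) : A')) →
      (ψ : CartDual.D R A) = ∏ i, (φ i : CartDual.D R A) →
      (ψ' : CartDual.D R A') = ∏ i, (φ' i : CartDual.D R A') →
      ∀ x : E R A p χ 1,
        CartDual.toDual R A (ψ : CartDual.D R A) (x : A) =
          CartDual.toDual R A' (ψ' : CartDual.D R A') ((θ x : E R A' p χ 1) : A')) :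
    Nonempty (A ≃ₐc[R] A') := by
  classical
  obtain ⟨F, hF⟩ := h.exists_algHom ((E R A' p χ 1).subtype ∘ₗ θ.toLinearMap) hθ
  obtain ⟨F', hF'⟩ := h'.exists_algHom ((E R A p χ 1).subtype ∘ₗ θ.symm.toLinearMap) fun f' g' hg' => by
    let f : Fin p → E R A p χ 1 := fun i => θ.symm (f' i)
    have h1 := hθ f ⟨_, h.prod_mem_one f⟩ rfl
    simp only [f, LinearEquiv.apply_symm_apply, ← hg'] at h1
    show ((θ.symm g' : E R A p χ 1) : A) = _
    rw [← Subtype.ext h1, LinearEquiv.symm_apply_apply]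
    rfl
  have hFF' : F'.comp F = AlgHom.id R A := h.algHom_ext fun x hx => by
    show F' (F ((⟨x, hx⟩ : E R A p χ 1) : A)) = x
    rw [hF]
    refine (hF' (θ ⟨x, hx⟩)).trans ?_
    simp
  have hF'F : F.comp F' = AlgHom.id R A' := h'.algHom_ext fun x hx => by
    show F (F' ((⟨x, hx⟩ : E R A' p χ 1) : A')) = x
    rw [hF']
    refine (hF (θ.symm ⟨x, hx⟩)).trans ?_
    simp
  let Fe : A ≃ₐ[R] A' := AlgEquiv.ofAlgHom F F' hF'F hFF'
  have hF1 : ∀ x ∈ E R A p χ 1, F x ∈ E R A' p χ 1 := fun x hx => by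
    rw [hF ⟨x, hx⟩]
    exact (θ ⟨x, hx⟩).2
  have hε : (Bialgebra.counitAlgHom R A').comp F = Bialgebra.counitAlgHom R A := h.algHom_ext fun x hx => by
    rw [AlgHom.comp_apply, (mem_eigenAug.1 (hF1 x hx)).1, (mem_eigenAug.1 hx).1]
  -- the transpose of `θ` on the duals
  have hD := h.dual
  have hD' := h'.dual
  let res : E R (CartDual.D R A) p χ 1 →ₗ[R] Module.Dual R (E R A p χ 1) :=
    (LinearMap.lcomp R R (E R A p χ 1).subtype) ∘ₗ (CartDual.toDual R A).toLinearMap ∘ₗ
      (E R (CartDual.D R A) p χ 1).subtype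
  have hres : Function.Bijective res := S18471.result p R u h.hu χ h.hχ A h.hp 1
  let eres := LinearEquiv.ofBijective res hres
  let θD : E R (CartDual.D R A') p χ 1 →ₗ[R] E R (CartDual.D R A) p χ 1 :=
    eres.symm.toLinearMap ∘ₗ (LinearMap.lcomp R R ((E R A' p χ 1).subtype ∘ₗ θ.toLinearMap)) ∘ₗ
      (CartDual.toDual R A').toLinearMap ∘ₗ (E R (CartDual.D R A') p χ 1).subtype
  have hθD' : ∀ (ξ : E R (CartDual.D R A') p χ 1) (x : E R A p χ 1),
      (θD ξ : CartDual.D R A).ofConv (x : A) = (ξ : CartDual.D R A').ofConv ((θ x : E R A' p χ 1) : A') :=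
    fun ξ x => LinearMap.congr_fun (eres.apply_symm_apply _) x
  obtain ⟨G, hG⟩ := hD'.exists_algHom ((E R (CartDual.D R A) p χ 1).subtype ∘ₗ θD) fun φ' ψ' hψ' => by
    let φ : Fin p → E R (CartDual.D R A) p χ 1 := fun i => θD (φ' i)
    have h1 := hθD φ φ' ⟨_, hD.prod_mem_one φ⟩ ψ' (fun i x => hθD' (φ' i) x) rfl hψ'
    show ((θD ψ' : E R (CartDual.D R A) p χ 1) : CartDual.D R A) = ∏ i, (φ i : CartDual.D R A)
    have : θD ψ' = ⟨_, hD.prod_mem_one φ⟩ := hres.1 (LinearMap.ext fun x => by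
      show (θD ψ' : CartDual.D R A).ofConv (x : A) = _
      rw [hθD']
      exact (h1 x).symm)
    rw [this]
  have hG1 : ∀ ξ ∈ E R (CartDual.D R A') p χ 1, G ξ ∈ E R (CartDual.D R A) p χ 1 := fun ξ hξ => by
    rw [hG ⟨ξ, hξ⟩]
    exact (θD ⟨ξ, hξ⟩).2
  have key : ∀ t, 1 ≤ t → ∀ Ξ ∈ E R (CartDual.D R A') p χ 1 ^ t, ∀ a ∈ E R A p χ 1 ^ t, ∃ c : R,
      (∀ y, (G Ξ).ofConv y • a = c • (toConv (eProj R A p u χ 1) ^ t) y) ∧
      (∀ y', Ξ.ofConv y' • F a = c • (toConv (eProj R A' p u χ 1) ^ t) y') := by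
    intro t ht
    induction t, ht using Nat.le_induction with
    | base =>
      intro ξ hξ a ha
      rw [pow_one] at hξ ha
      refine ⟨ξ.ofConv (F a), fun y => ?_, fun y' => ?_⟩
      · have h1 : ξ.ofConv (F a) = (G ξ).ofConv a := by
          rw [hG ⟨ξ, hξ⟩, hF ⟨a, ha⟩]
          exact (hθD' ⟨ξ, hξ⟩ ⟨a, ha⟩).symm
        rw [pow_one, ← apply_eProj h.hu (hG1 ξ hξ) y, h1]
        exact h.swap _ (eProj_mem h.hp 1 y) ha
      · rw [pow_one, ← apply_eProj h.hu hξ y']
        exact h'.swap _ (eProj_mem h'.hp 1 y') (hF1 a ha)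
    | succ n _ ih =>
      intro Ξ hΞ a ha
      rw [pow_succ] at hΞ ha
      induction hΞ using Submodule.mul_induction_on' with
      | mem_mul_mem Ξ₁ hΞ₁ ξ hξ =>
        induction ha using Submodule.mul_induction_on' with
        | mem_mul_mem a₁ ha₁ b hb =>
          obtain ⟨c, hc, hc'⟩ := ih Ξ₁ hΞ₁ a₁ ha₁
          refine ⟨c * ξ.ofConv (F b), fun y => ?_, fun y' => ?_⟩
          · rw [map_mul, pow_succ]
            refine convMul_smul_eq hc (fun z => ?_) y
            have h1 : ξ.ofConv (F b) = (G ξ).ofConv b := by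
              rw [hG ⟨ξ, hξ⟩, hF ⟨b, hb⟩]
              exact (hθD' ⟨ξ, hξ⟩ ⟨b, hb⟩).symm
            rw [← apply_eProj h.hu (hG1 ξ hξ) z, h1]
            exact h.swap _ (eProj_mem h.hp 1 z) hb
          · rw [map_mul, pow_succ]
            refine convMul_smul_eq hc' (fun z => ?_) y'
            rw [← apply_eProj h.hu hξ z]
            exact h'.swap _ (eProj_mem h'.hp 1 z) (hF1 b hb)
        | add a₁ _ a₂ _ ha₁ ha₂ =>
          obtain ⟨c₁, h₁, h₁'⟩ := ha₁
          obtain ⟨c₂, h₂, h₂'⟩ := ha₂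
          exact ⟨c₁ + c₂, fun y => by rw [smul_add, h₁, h₂, add_smul],
            fun y' => by rw [map_add, smul_add, h₁', h₂', add_smul]⟩
      | add Ξ₁ _ Ξ₂ _ hΞ₁ hΞ₂ =>
        obtain ⟨c₁, h₁, h₁'⟩ := hΞ₁
        obtain ⟨c₂, h₂, h₂'⟩ := hΞ₂
        exact ⟨c₁ + c₂, fun y => by rw [map_add, WithConv.ofConv_add, LinearMap.add_apply, add_smul, h₁, h₂, add_smul],
          fun y' => by rw [WithConv.ofConv_add, LinearMap.add_apply, add_smul, h₁', h₂', add_smul]⟩
  have hdual : ∀ Ξ : CartDual.D R A', ∀ y : A, (G Ξ).ofConv y = Ξ.ofConv (F y) := by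
    have hpow : ∀ t, 1 ≤ t → t ≤ p - 1 → ∀ Ξ ∈ E R (CartDual.D R A') p χ t, ∀ y : A,
        (G Ξ).ofConv y = Ξ.ofConv (F y) := by
      intro t ht ht' Ξ hΞ
      have hμ := setup_muP (R := R) (p := p) h.hu h.hχ h.hχp
      obtain ⟨w, hw⟩ : ∃ w : R, w • _root_.OortTate.ygen R p u χ t = _root_.OortTate.ygen R p u χ 1 ^ t := by
        rw [← Submodule.mem_span_singleton, ← eigenAug_muP hμ t]
        exact pow_mem_eigenAug (ygen_mem hμ 1) ht
      rw [← hD'.pow_eq t ht ht'] at hΞ
      have hGΞ : G Ξ ∈ E R (CartDual.D R A) p χ t := hD.pow_le t ht (map_mem_pow hG1 ht Ξ hΞ)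
      have hΞt : Ξ ∈ E R (CartDual.D R A') p χ t := hD'.pow_le t ht hΞ
      have hEt : ∀ y ∈ E R A p χ t, (G Ξ).ofConv y = Ξ.ofConv (F y) := fun y hy => by
        refine sub_eq_zero.1 (h.eq_zero_of_smul_eq_zero t _ fun a ha => ?_)
        rw [← h.pow_eq t ht ht'] at ha
        obtain ⟨c, hc, hc'⟩ := key t ht Ξ hΞ a ha
        have hFy : F y ∈ E R A' p χ t := h'.pow_le t ht (map_mem_pow hF1 ht y (h.pow_eq t ht ht' ▸ hy))
        have e1 := congrArg F (hc y)
        rw [h.convPow_eProj hw.symm, map_smul F, map_smul F, WithConv.ofConv_smul, LinearMap.smul_apply,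
          map_smul F, ofConv_toConv, eProj_eq_self h.hu hy] at e1
        have e2 := hc' (F y)
        rw [h'.convPow_eProj hw.symm, WithConv.ofConv_smul, LinearMap.smul_apply,
          ofConv_toConv, eProj_eq_self h.hu hFy] at e2
        apply Fe.injective
        show F _ = F 0
        rw [map_smul, sub_smul, e1, e2, sub_self, map_zero]
      intro y
      have hx := h.sum_eProj y
      rw [← hx, map_add, map_add F, map_add, map_sum, map_sum F, map_sum]
      congr 1
      · rw [AlgHom.commutes, Algebra.algebraMap_eq_smul_one, Algebra.algebraMap_eq_smul_one, map_smul, map_smul,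
          show (G Ξ).ofConv 1 = 0 from (mem_eigenAug.1 hGΞ).1, show Ξ.ofConv 1 = 0 from (mem_eigenAug.1 hΞt).1]
      · refine Finset.sum_congr rfl fun j _ => ?_
        have hmem := eProj_mem (u := u) (χ := χ) h.hp (j : ℕ) y
        rcases eq_or_ne ((j : ℕ) % (p - 1)) (t % (p - 1)) with hjt | hjt
        · rw [eigenAug_mod, hjt, ← eigenAug_mod] at hmem
          exact hEt _ hmem
        · obtain ⟨s, hs, hs', hjs, hE⟩ := exists_eq' (A := A) (χ := χ) (j : ℕ)
          have hsj : s % (p - 1) ≠ t % (p - 1) := fun e => hjt (hjs.trans e)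
          have hFm : F (eProj R A p u χ (j : ℕ) y) ∈ E R A' p χ s :=
            h'.pow_le s hs (map_mem_pow hF1 hs _ (h.pow_eq s hs hs' ▸ hE ▸ hmem))
          rw [← apply_eProj h.hu hGΞ, h.eProj_eq_zero hjt hmem, ← apply_eProj h.hu hΞt (F _),
            h'.eProj_eq_zero hsj hFm, map_zero, map_zero]
    intro Ξ y
    have hx := hD'.sum_eProj Ξ
    rw [← hx, map_add, map_sum, WithConv.ofConv_add, WithConv.ofConv_add, LinearMap.add_apply,
      LinearMap.add_apply, WithConv.ofConv_sum, WithConv.ofConv_sum, LinearMap.sum_apply, LinearMap.sum_apply]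
    congr 1
    · rw [AlgHom.commutes]
      simp only [LinearMap.convAlgebraMap_apply]
      congr 2
      exact (AlgHom.congr_fun hε y).symm
    · refine Finset.sum_congr rfl fun j _ => ?_
      obtain ⟨t, ht, ht', hE⟩ := hD'.exists_eq (j : ℕ)
      exact hpow t ht ht' _ (hE ▸ eProj_mem hD'.hp _ _) y
  refine ⟨BialgEquiv.ofAlgEquiv Fe hε (AlgHom.ext fun x => ?_)⟩
  rw [← sub_eq_zero]
  refine (Module.forall_dual_apply_eq_zero_iff R _).1 fun φ => ?_
  obtain ⟨z, rfl⟩ := (CartDual.ev₂ R A').surjective φ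
  rw [map_sub, sub_eq_zero]
  induction z using TensorProduct.induction_on with
  | zero => simp
  | add v w hv hw => simp only [map_add, LinearMap.add_apply, hv, hw]
  | tmul f g =>
    have h1 := congrArg (fun L : CartDual.D R A => L.ofConv x) (map_mul G f g)
    rw [hdual, LinearMap.convMul_apply, LinearMap.convMul_apply] at h1
    simp only [AlgHom.comp_apply, Bialgebra.comulAlgHom_apply]
    rw [CartDual.ev₂_tmul_eq', LinearMap.comp_apply, LinearMap.comp_apply]
    refine Eq.trans ?_ h1.symm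
    induction Coalgebra.comul (R := R) x using TensorProduct.induction_on with
    | zero => simp
    | add v w hv hw => simp only [map_add, hv, hw]
    | tmul a b =>
      simp [hdual]
      rfl

end Setup

end Groth.Agent.OortTate
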