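import Groth.Agent.OortTate.Rank
import Mathlib.Data.List.OfFn

/-!
# `A` is the quotient of the tensor algebra of its first eigen-submodule by `f₁ ⋯ f_p = g`
-/

universe u

open scoped TensorProduct
open WithConv

namespace Groth.Agent.OortTate

local notation "E" => _root_.OortTate.eigenAug

variable {R : Type u} [CommRing R] {A : Type u} [CommRing A] [HopfAlgebra R A]
  [Module.Finite R A] [Module.Projective R A] {p : ℕ} [Fact p.Prime] {u : R}
  {χ : (ZMod p)ˣ →* Rˣ}

namespace Setup

variable (h : Setup R A p u χ)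
include h

theorem pow_p_mem {e : A} (he : e ∈ E R A p χ 1) : e ^ p ∈ E R A p χ 1 := by
  have hp1 := (Fact.out : p.Prime).one_lt
  have := pow_mem_eigenAug he (t := p) hp1.le
  rwa [eigenAug_mod, show p % (p - 1) = 1 % (p - 1) by
    have h2 := Nat.add_mod_right 1 (p - 1)
    rwa [Nat.add_sub_cancel' hp1.le] at h2, ← eigenAug_mod] at this

theorem lift_surjective : Function.Surjective (TensorAlgebra.lift R (E R A p χ 1).subtype) := by
  rw [← AlgHom.range_eq_top, eq_top_iff]
  intro a _
  let M := (TensorAlgebra.lift R (E R A p χ 1).subtype).range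
  have h1 : E R A p χ 1 ≤ Subalgebra.toSubmodule M := fun b hb =>
    ⟨TensorAlgebra.ι R ⟨b, hb⟩, TensorAlgebra.lift_ι_apply _ _⟩
  have hpow : ∀ t, 1 ≤ t → E R A p χ 1 ^ t ≤ Subalgebra.toSubmodule M := fun t ht => by
    induction t, ht using Nat.le_induction with
    | base => simpa using h1
    | succ n _ ih =>
      rw [pow_succ, Submodule.mul_le]
      exact fun x hx y hy => mul_mem (s := M) (ih hx) (h1 hy)
  have hI : LinearMap.ker (Bialgebra.counitAlgHom R A).toLinearMap ≤ Subalgebra.toSubmodule M := by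
    rw [← iSup_eigenAug h.hu h.hχ h.hp]
    refine iSup_le fun i => ?_
    obtain ⟨t, ht, ht', hE⟩ := h.exists_eq (i : ℕ)
    rw [hE, ← h.pow_eq t ht ht']
    exact hpow t ht
  rw [← sub_add_cancel a (algebraMap R A (Bialgebra.counitAlgHom R A a))]
  exact add_mem (hI (by simp)) (M.algebraMap_mem _)

/-- The relations `f₁ ⋯ f_p - g`. -/
def relations (R : Type u) [CommRing R] (A : Type u) [CommRing A] [HopfAlgebra R A] (p : ℕ)
    (χ : (ZMod p)ˣ →* Rˣ) : Set (TensorAlgebra R (E R A p χ 1)) :=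
  {x | ∃ (f : Fin p → E R A p χ 1) (g : E R A p χ 1),
    (g : A) = ∏ i, (f i : A) ∧ x = (List.ofFn fun i => TensorAlgebra.ι R (f i)).prod - TensorAlgebra.ι R g}

theorem ker_lift :
    RingHom.ker (TensorAlgebra.lift R (E R A p χ 1).subtype) = Ideal.span (relations R A p χ) := by
  classical
  set Λ := TensorAlgebra.lift R (E R A p χ 1).subtype
  set J := Ideal.span (relations R A p χ)
  have hle : J ≤ RingHom.ker Λ := by
    rw [Ideal.span_le]
    rintro _ ⟨f, g, hg, rfl⟩
    show Λ _ = 0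
    rw [map_sub, map_list_prod, List.map_ofFn, List.prod_ofFn, TensorAlgebra.lift_ι_apply, sub_eq_zero]
    refine Eq.trans ?_ hg.symm
    exact Finset.prod_congr rfl fun i _ => TensorAlgebra.lift_ι_apply _ _
  refine le_antisymm (fun w hw => ?_) hle
  have hw0 : Λ w = 0 := hw
  have hJs : ∀ (r : R) {x}, x ∈ J → r • x ∈ J := fun r x hx => by
    rw [Algebra.smul_def]; exact J.mul_mem_left _ hx
  let C : Ideal R :=
    { carrier := {r | r • w ∈ J}
      add_mem' := fun hx hy => by simpa [add_smul] using add_mem hx hy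
      zero_mem' := by simp
      smul_mem' := fun c x hx => by simpa [mul_smul] using hJs c hx }
  suffices C = ⊤ by simpa [C] using (Ideal.eq_top_iff_one C).1 this
  by_contra hC
  obtain ⟨m, hm, hCm⟩ := Ideal.exists_le_maximal C hC
  obtain ⟨s, hs, e, he, hse⟩ := h.exists_generator ⟨m, hm.isPrime⟩
  let X : TensorAlgebra R (E R A p χ 1) := TensorAlgebra.ι R ⟨e, he⟩
  have hse' : ∀ a : E R A p χ 1, ∃ r : R, s • a = r • (⟨e, he⟩ : E R A p χ 1) := fun a => by
    obtain ⟨r, hr⟩ := Submodule.mem_span_singleton.1 (hse a a.2)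
    exact ⟨r, Subtype.ext hr.symm⟩
  have hP : ∀ v, ∃ N : ℕ, s ^ N • v ∈ Algebra.adjoin R {X} := by
    intro v
    induction v using TensorAlgebra.induction with
    | algebraMap r => exact ⟨0, by rw [pow_zero, one_smul]; exact Subalgebra.algebraMap_mem _ r⟩
    | ι a =>
      obtain ⟨r, hr⟩ := hse' a
      refine ⟨1, ?_⟩
      rw [pow_one, ← map_smul, hr, map_smul]
      exact Subalgebra.smul_mem _ (Algebra.subset_adjoin (Set.mem_singleton X)) r
    | mul a b ha hb =>
      obtain ⟨N₁, h₁⟩ := ha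
      obtain ⟨N₂, h₂⟩ := hb
      exact ⟨N₁ + N₂, by rw [pow_add, ← smul_mul_smul_comm]; exact mul_mem h₁ h₂⟩
    | add a b ha hb =>
      obtain ⟨N₁, h₁⟩ := ha
      obtain ⟨N₂, h₂⟩ := hb
      refine ⟨N₁ + N₂, ?_⟩
      rw [smul_add]
      refine add_mem ?_ ?_
      · rw [add_comm, pow_add, mul_smul]; exact Subalgebra.smul_mem _ h₁ _
      · rw [pow_add, mul_smul]; exact Subalgebra.smul_mem _ h₂ _
  let W : Submodule R (TensorAlgebra R (E R A p χ 1)) :=
    Submodule.span R (Set.range fun t : Fin p => X ^ (t : ℕ)) ⊔ J.restrictScalars R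
  have hX : ∀ n, ∃ N : ℕ, s ^ N • X ^ n ∈ W := by
    intro n
    induction n using Nat.strong_induction_on with
    | _ n ih =>
      rcases lt_or_ge n p with hn | hn
      · exact ⟨0, by rw [pow_zero, one_smul]; exact Submodule.mem_sup_left (Submodule.subset_span ⟨⟨n, hn⟩, rfl⟩)⟩
      · obtain ⟨r, hr⟩ := hse' ⟨e ^ p, h.pow_p_mem he⟩
        obtain ⟨N, hN⟩ := ih (n - p + 1) (by have := (Fact.out : p.Prime).one_lt; omega)
        refine ⟨N + 1, ?_⟩
        have hrel : X ^ p - TensorAlgebra.ι R ⟨e ^ p, h.pow_p_mem he⟩ ∈ J :=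
          Ideal.subset_span ⟨fun _ => ⟨e, he⟩, ⟨e ^ p, h.pow_p_mem he⟩, by simp,
            by rw [List.ofFn_const, List.prod_replicate]⟩
        have key : s ^ (N + 1) • X ^ n =
            (s ^ (N + 1) • (X ^ (n - p) * (X ^ p - TensorAlgebra.ι R ⟨e ^ p, h.pow_p_mem he⟩))) +
              r • (s ^ N • X ^ (n - p + 1)) := by
          rw [mul_sub, smul_sub, ← pow_add, Nat.sub_add_cancel hn, sub_add]
          have : s ^ (N + 1) • (X ^ (n - p) * TensorAlgebra.ι R ⟨e ^ p, h.pow_p_mem he⟩) =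
              r • (s ^ N • X ^ (n - p + 1)) := by
            rw [pow_succ, mul_smul, ← mul_smul_comm s, ← map_smul, hr, map_smul, mul_smul_comm,
              ← pow_succ, smul_comm]
          rw [this, sub_self, sub_zero]
        rw [key]
        refine add_mem (Submodule.mem_sup_right ?_) (W.smul_mem r hN)
        exact hJs _ (J.mul_mem_left _ hrel)
  have hWall : ∀ v ∈ Algebra.adjoin R {X}, ∃ N : ℕ, s ^ N • v ∈ W := by
    intro v hv
    rw [← Subalgebra.mem_toSubmodule, Algebra.adjoin_eq_span] at hv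
    induction hv using Submodule.span_induction with
    | mem x hx => obtain ⟨n, rfl⟩ := Submonoid.mem_closure_singleton.1 hx; exact hX n
    | zero => exact ⟨0, by simp⟩
    | add a b _ _ ha hb =>
      obtain ⟨N₁, h₁⟩ := ha
      obtain ⟨N₂, h₂⟩ := hb
      refine ⟨N₁ + N₂, ?_⟩
      rw [smul_add]
      refine add_mem ?_ ?_
      · rw [add_comm, pow_add, mul_smul]; exact W.smul_mem _ h₁
      · rw [pow_add, mul_smul]; exact W.smul_mem _ h₂
    | smul r a _ ha =>
      obtain ⟨N, hN⟩ := ha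
      exact ⟨N, by rw [smul_comm]; exact W.smul_mem r hN⟩
  obtain ⟨N₁, hN₁⟩ := hP w
  obtain ⟨N₂, hN₂⟩ := hWall _ hN₁
  obtain ⟨a, ha, j, hj, hsum⟩ := Submodule.mem_sup.1 hN₂
  obtain ⟨c, rfl⟩ := (Submodule.mem_span_range_iff_exists_fun R).1 ha
  have hj0 : Λ j = 0 := hle hj
  have hzero : ∑ t : Fin p, c t • e ^ (t : ℕ) = 0 := by
    have := congrArg Λ hsum
    rw [map_add, hj0, add_zero, map_smul, map_smul, hw0, smul_zero, smul_zero, map_sum] at this
    simpa [X, Λ] using this
  have hc : ∀ t : Fin p, s ^ p * c t = 0 := fun t => by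
    have h0 := h.eq_zero_of_sum_eq_zero he c hzero t
    rcases Nat.eq_zero_or_pos (t : ℕ) with ht | ht
    · rw [ht, pow_zero] at h0
      have := congrArg (Bialgebra.counitAlgHom R A) h0
      rw [map_smul, map_one, map_zero, smul_eq_mul, mul_one] at this
      rw [this, mul_zero]
    · rw [← Nat.add_sub_cancel' t.2.le, pow_add, mul_right_comm,
        h.mem_of_smul_eq_zero ht (by omega) hse h0, zero_mul]
  apply hs
  have hmem : s ^ p * (s ^ N₂ * s ^ N₁) ∈ C := by
    show (s ^ p * (s ^ N₂ * s ^ N₁)) • w ∈ J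
    rw [mul_smul, mul_smul, ← hsum, smul_add, Finset.smul_sum]
    simp only [smul_smul, hc, zero_smul, Finset.sum_const_zero, zero_add]
    exact hJs _ hj
  have := hCm hmem
  rw [← pow_add, ← pow_add] at this
  exact hm.isPrime.mem_of_pow_mem _ this

end Setup

end Groth.Agent.OortTate
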