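import Groth.Agent.OortTate.Monogenic
import Mathlib.RingTheory.Coalgebra.MonoidAlgebra

/-!
# The group scheme `μ_p` and the elements `OortTate.ygen`
-/

universe u

open scoped TensorProduct
open WithConv

namespace Groth.Agent.OortTate

local notation "E" => _root_.OortTate.eigenAug
local notation "π" => _root_.OortTate.proj

variable {R : Type u} [CommRing R] {G : Type} [CommGroup G]

theorem powConv_of (n : ℕ) (g : G) :
    SGA3b.powConv R (MonoidAlgebra R G) n (MonoidAlgebra.of R G g) = MonoidAlgebra.of R G (g ^ n) := by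
  induction n with
  | zero => simp [powConv_zero_apply, MonoidAlgebra.one_def]
  | succ n ih =>
    show (toConv (AlgHom.id R (MonoidAlgebra R G)) ^ (n + 1)) (MonoidAlgebra.of R G g) = _
    rw [pow_succ (toConv (AlgHom.id R (MonoidAlgebra R G))), AlgHom.convMul_apply, MonoidAlgebra.of_apply,
      MonoidAlgebra.comul_single, CommSemiring.comul_apply, TensorProduct.map_tmul,
      Algebra.TensorProduct.lift_tmul]
    show SGA3b.powConv R (MonoidAlgebra R G) n (MonoidAlgebra.of R G g) * MonoidAlgebra.of R G g = _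
    rw [ih, ← map_mul, pow_succ]

theorem counit_of (g : G) :
    Bialgebra.counitAlgHom R (MonoidAlgebra R G) (MonoidAlgebra.of R G g) = 1 := by
  simp [MonoidAlgebra.of_apply]

section MuP

variable (R : Type u) [CommRing R] (p : ℕ) [Fact p.Prime]

local notation "Mu" => MonoidAlgebra R (Multiplicative (ZMod p))

theorem rankAtStalk_muP (q : PrimeSpectrum R) : Module.rankAtStalk Mu q = p := by
  haveI := (⟨⟨q.asIdeal, q.2⟩⟩ : Nonempty (PrimeSpectrum R))
  have : Nontrivial R := ⟨⟨0, 1, fun h => q.2.ne_top ((Ideal.eq_top_iff_one _).2 (h ▸ q.asIdeal.zero_mem))⟩⟩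
  rw [Module.rankAtStalk_eq_finrank_of_free, Pi.natCast_apply, Nat.cast_id,
    Module.finrank_eq_card_basis (MonoidAlgebra.basis (Multiplicative (ZMod p)) R), Fintype.card_multiplicative,
    ZMod.card]

variable {R p} {u : R} {χ : (ZMod p)ˣ →* Rˣ}

instance moduleFinite_muP : Module.Finite R Mu :=
  Module.Finite.of_basis (MonoidAlgebra.basis (Multiplicative (ZMod p)) R)

instance moduleFree_muP : Module.Free R Mu :=
  Module.Free.of_basis (MonoidAlgebra.basis (Multiplicative (ZMod p)) R)

theorem setup_muP (hu : u * ((p - 1 : ℕ) : R) = 1)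
    (hχ : ∀ m : (ZMod p)ˣ, m ≠ 1 → IsUnit ((χ m : R) - 1))
    (hχp : ∀ m : (ZMod p)ˣ,
      ((χ m : Rˣ) : R) - (((m : ZMod p).val : ℕ) : R) ∈ Ideal.span ({(p : R)} : Set R)) :
    Setup R Mu p u χ :=
  ⟨hu, hχ, hχp, rankAtStalk_muP R p⟩

variable (h : Groth.Agent.OortTate.Setup R (MonoidAlgebra R (Multiplicative (ZMod p))) p u χ)
include h

theorem counit_muT_sub_one :
    Bialgebra.counitAlgHom R Mu (_root_.OortTate.muT R p - 1) = 0 := by
  rw [map_sub, map_one, counit_of, sub_self]

theorem ygen_mem (i : ℕ) : _root_.OortTate.ygen R p u χ i ∈ E R Mu p χ i :=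
  proj_mem_eigenAug h.hp i (counit_muT_sub_one h)

theorem span_ygen :
    Submodule.span R (Set.range fun i : Fin (p - 1) => _root_.OortTate.ygen R p u χ (i : ℕ)) =
      LinearMap.ker (Bialgebra.counitAlgHom R Mu).toLinearMap := by
  refine le_antisymm (Submodule.span_le.2 ?_) fun a ha => ?_
  · rintro _ ⟨i, rfl⟩
    exact eigenAug_le_ker _ (ygen_mem h _)
  set S := Submodule.span R (Set.range fun i : Fin (p - 1) => _root_.OortTate.ygen R p u χ (i : ℕ))
  have hg : ∀ g : Multiplicative (ZMod p), MonoidAlgebra.of R _ g - 1 ∈ S := fun g => by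
    rcases eq_or_ne g.toAdd 0 with hg | hg
    · have : g = 1 := Multiplicative.toAdd.injective (by simpa using hg)
      rw [this, map_one, sub_self]
      exact zero_mem _
    · let m : (ZMod p)ˣ := Units.mk0 g.toAdd hg
      have e : SGA3b.powConv R Mu (m : ZMod p).val (_root_.OortTate.muT R p - 1) =
          MonoidAlgebra.of R _ g - 1 := by
        rw [map_sub, map_one, powConv_of]
        congr 2
        apply Multiplicative.toAdd.injective
        simp [m]
      rw [← e, ← sum_proj h.hu h.hχ h.hp (SGA3b.powConv R Mu (m : ZMod p).val _)]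
      refine Submodule.sum_mem _ fun i _ => ?_
      rw [proj_powConv h.hp]
      exact Submodule.smul_mem _ _ (Submodule.subset_span ⟨i, rfl⟩)
  have key : ∀ b : Mu, b - algebraMap R Mu (Bialgebra.counitAlgHom R Mu b) ∈ S := by
    intro b
    induction b using MonoidAlgebra.induction_on with
    | of g => rw [counit_of, map_one]; exact hg g
    | add x y hx hy =>
      convert add_mem hx hy using 1
      simp only [map_add]
      abel
    | smul r x hx =>
      convert S.smul_mem r hx using 1
      rw [map_smul, smul_eq_mul, map_mul, smul_sub, Algebra.smul_def r (algebraMap R Mu _)]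
  have := key a
  rwa [show Bialgebra.counitAlgHom R Mu a = 0 from ha, map_zero, sub_zero] at this

theorem eigenAug_muP (i : ℕ) : E R Mu p χ i = R ∙ _root_.OortTate.ygen R p u χ i := by
  refine le_antisymm (fun f hf => ?_) ((Submodule.span_singleton_le_iff_mem _ _).2 (ygen_mem h i))
  have hp2 := (Fact.out : p.Prime).two_le
  let j : Fin (p - 1) := ⟨i % (p - 1), Nat.mod_lt _ (by omega)⟩
  obtain ⟨c, hc⟩ := (Submodule.mem_span_range_iff_exists_fun R).1
    ((span_ygen h).symm ▸ eigenAug_le_ker _ hf :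
      f ∈ Submodule.span R (Set.range fun i : Fin (p - 1) => _root_.OortTate.ygen R p u χ (i : ℕ)))
  rw [eigenAug_mod] at hf
  rw [show _root_.OortTate.ygen R p u χ i = _root_.OortTate.ygen R p u χ (j : ℕ) from
    congrArg (fun F : Mu →ₗ[R] Mu => F _) (proj_mod (A := Mu) (χ := χ) u i)]
  rw [← proj_eq_self (u := u) (i := (j : ℕ)) h.hu hf, ← hc, map_sum, Finset.sum_eq_single j]
  · rw [map_smul, proj_eq_self h.hu (ygen_mem h _)]
    exact Submodule.smul_mem _ _ (Submodule.mem_span_singleton_self _)
  · intro k _ hk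
    rw [map_smul, ← proj_eq_self h.hu (ygen_mem h (k : ℕ)),
      proj_proj_of_ne h.hu h.hχ h.hp (Ne.symm hk), smul_zero]
  · simp

theorem eq_zero_of_smul_ygen (i : ℕ) {r : R} (hr : r • _root_.OortTate.ygen R p u χ i = 0) : r = 0 := by
  refine h.eq_zero_of_smul_eq_zero i r fun a ha => ?_
  rw [eigenAug_muP h, Submodule.mem_span_singleton] at ha
  obtain ⟨c, rfl⟩ := ha
  rw [smul_comm, hr, smul_zero]

theorem linearIndependent_ygen :
    LinearIndependent R fun i : Fin (p - 1) => _root_.OortTate.ygen R p u χ (i : ℕ) := by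
  refine Fintype.linearIndependent_iff.2 fun c hc j => eq_zero_of_smul_ygen h (j : ℕ) ?_
  have := congrArg (π R Mu p u χ (j : ℕ)) hc
  rw [map_sum, map_zero, Finset.sum_eq_single j] at this
  · rwa [map_smul, proj_eq_self h.hu (ygen_mem h _)] at this
  · intro k _ hk
    rw [map_smul, ← proj_eq_self h.hu (ygen_mem h (k : ℕ)),
      proj_proj_of_ne h.hu h.hχ h.hp (Ne.symm hk), smul_zero]
  · simp

theorem adjoin_ygen :
    Algebra.adjoin R ({_root_.OortTate.ygen R p u χ 1} : Set Mu) = ⊤ := by
  refine eq_top_iff.2 fun a _ => ?_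
  obtain ⟨w, rfl⟩ := h.lift_surjective a
  induction w using TensorAlgebra.induction with
  | algebraMap r => rw [AlgHom.commutes]; exact Subalgebra.algebraMap_mem _ r
  | ι x =>
    rw [TensorAlgebra.lift_ι_apply]
    obtain ⟨c, hc⟩ : ∃ c : R, c • _root_.OortTate.ygen R p u χ 1 = (x : Mu) := by
      rw [← Submodule.mem_span_singleton, ← eigenAug_muP h 1]
      exact x.2
    rw [Submodule.subtype_apply, ← hc]
    exact Subalgebra.smul_mem _ (Algebra.subset_adjoin (Set.mem_singleton _)) c
  | mul a b ha hb => rw [map_mul]; exact mul_mem (ha trivial) (hb trivial)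
  | add a b ha hb => rw [map_add]; exact add_mem (ha trivial) (hb trivial)

theorem existsUnique_ygen_pow :
    ∃! w : R, _root_.OortTate.ygen R p u χ 1 ^ p = w • _root_.OortTate.ygen R p u χ 1 := by
  obtain ⟨w, hw⟩ := Submodule.mem_span_singleton.1 (eigenAug_muP h 1 ▸ h.pow_p_mem (ygen_mem h 1))
  refine ⟨w, hw.symm, fun w' hw' => sub_eq_zero.1 (eq_zero_of_smul_ygen h 1 ?_)⟩
  rw [sub_smul, hw, ← hw', sub_self]

end MuP

end Groth.Agent.OortTate
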