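import Mathlib.RingTheory.HopfAlgebra.Basic
import Mathlib.RingTheory.Bialgebra.TensorProduct
import Mathlib.RingTheory.Bialgebra.Equiv
import Mathlib.LinearAlgebra.TensorProduct.Basic
import Mathlib.Tactic.LinearCombination

/-!
# Hopf algebras whose augmentation ideal is free of rank one
-/

universe u v

open scoped TensorProduct

namespace Groth.Agent.OortTate.OrderTwo

variable {R : Type u} [CommRing R] {A : Type v} [CommRing A] [HopfAlgebra R A]
  {x : A} (hx : Bialgebra.counitAlgHom R A x = 0)
  (hgen : ∀ f : A, Bialgebra.counitAlgHom R A f = 0 → ∃ r : R, f = r • x)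
  (hfree : ∀ r : R, r • x = 0 → r = 0)

include hx hgen hfree

omit hfree in
theorem exists_decomp (f : A) : ∃ r : R, f = Bialgebra.counitAlgHom R A f • (1 : A) + r • x := by
  obtain ⟨r, hr⟩ := hgen (f - Bialgebra.counitAlgHom R A f • (1 : A))
    (by rw [map_sub, map_smul, map_one, smul_eq_mul, mul_one, sub_self])
  exact ⟨r, by rw [← hr, add_sub_cancel]⟩

/-- The coordinate along `x`. -/
noncomputable def coord : A →ₗ[R] R where
  toFun f := (exists_decomp hx hgen f).choose
  map_add' f g := by
    have e1 := (exists_decomp hx hgen f).choose_spec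
    have e2 := (exists_decomp hx hgen g).choose_spec
    have e3 := (exists_decomp hx hgen (f + g)).choose_spec
    refine sub_eq_zero.1 (hfree _ ?_)
    generalize (exists_decomp hx hgen f).choose = a at e1 ⊢
    generalize (exists_decomp hx hgen g).choose = b at e2 ⊢
    generalize (exists_decomp hx hgen (f + g)).choose = c at e3 ⊢
    rw [map_add, add_smul] at e3
    linear_combination (norm := module) e1 + e2 - e3
  map_smul' r f := by
    have e1 := (exists_decomp hx hgen f).choose_spec
    have e3 := (exists_decomp hx hgen (r • f)).choose_spec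
    refine sub_eq_zero.1 (hfree _ ?_)
    generalize (exists_decomp hx hgen f).choose = a at e1 ⊢
    generalize (exists_decomp hx hgen (r • f)).choose = c at e3 ⊢
    rw [map_smul, smul_eq_mul] at e3
    simp only [RingHom.id_apply, smul_eq_mul]
    linear_combination (norm := module) r • e1 - e3

theorem eq_coord (f : A) :
    f = Bialgebra.counitAlgHom R A f • (1 : A) + coord hx hgen hfree f • x :=
  (exists_decomp hx hgen f).choose_spec

theorem coord_x : coord hx hgen hfree x = 1 := by
  refine sub_eq_zero.1 (hfree _ ?_)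
  have h := eq_coord hx hgen hfree x
  rw [hx, zero_smul, zero_add] at h
  rw [sub_smul, ← h, one_smul, sub_self]

theorem coord_one : coord hx hgen hfree 1 = 0 := by
  refine hfree _ ?_
  have h := eq_coord hx hgen hfree 1
  rw [map_one, one_smul] at h
  exact left_eq_add.1 h

/-- The `x ⊗ x` coordinate. -/
noncomputable def coord₂ : A ⊗[R] A →ₗ[R] R :=
  LinearMap.mul' R R ∘ₗ TensorProduct.map (coord hx hgen hfree) (coord hx hgen hfree)

@[simp] theorem coord₂_tmul (f g : A) :
    coord₂ hx hgen hfree (f ⊗ₜ g) = coord hx hgen hfree f * coord hx hgen hfree g := rfl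

theorem comul_eq (f : A) (hf : Bialgebra.counitAlgHom R A f = 0) :
    Bialgebra.comulAlgHom R A f = f ⊗ₜ[R] 1 + 1 ⊗ₜ[R] f +
      coord₂ hx hgen hfree (Bialgebra.comulAlgHom R A f) • (x ⊗ₜ[R] x) := by
  have key : ∀ z : A ⊗[R] A, z =
      (TensorProduct.rid R A (LinearMap.lTensor A (Bialgebra.counitAlgHom R A).toLinearMap z)) ⊗ₜ[R] (1 : A)
        + (1 : A) ⊗ₜ[R] (TensorProduct.lid R A (LinearMap.rTensor A (Bialgebra.counitAlgHom R A).toLinearMap z))
        - (Bialgebra.counitAlgHom R A
            (TensorProduct.lid R A (LinearMap.rTensor A (Bialgebra.counitAlgHom R A).toLinearMap z))) •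
              ((1 : A) ⊗ₜ[R] (1 : A))
        + coord₂ hx hgen hfree z • (x ⊗ₜ[R] x) := by
    intro z
    induction z using TensorProduct.induction_on with
    | zero => simp
    | add v w hv hw =>
      simp only [map_add, TensorProduct.add_tmul, TensorProduct.tmul_add, add_smul]
      conv_lhs => rw [hv, hw]
      abel
    | tmul a b =>
      simp only [LinearMap.lTensor_tmul, LinearMap.rTensor_tmul, TensorProduct.rid_tmul, TensorProduct.lid_tmul,
        AlgHom.toLinearMap_apply, map_smul, smul_eq_mul, coord₂_tmul]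
      have ea := eq_coord hx hgen hfree a
      have eb := eq_coord hx hgen hfree b
      generalize coord hx hgen hfree a = r at ea ⊢
      generalize coord hx hgen hfree b = s at eb ⊢
      generalize Bialgebra.counitAlgHom R A a = c at ea ⊢
      generalize Bialgebra.counitAlgHom R A b = d at eb ⊢
      subst ea eb
      simp only [TensorProduct.add_tmul, TensorProduct.tmul_add, smul_add, ← TensorProduct.smul_tmul',
        TensorProduct.tmul_smul, smul_smul]
      module
  have h1 : LinearMap.lTensor A (Bialgebra.counitAlgHom R A).toLinearMap (Bialgebra.comulAlgHom R A f) =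
      f ⊗ₜ (1 : R) := Coalgebra.lTensor_counit_comul f
  have h2 : LinearMap.rTensor A (Bialgebra.counitAlgHom R A).toLinearMap (Bialgebra.comulAlgHom R A f) =
      (1 : R) ⊗ₜ f := Coalgebra.rTensor_counit_comul f
  conv_lhs => rw [key (Bialgebra.comulAlgHom R A f)]
  rw [h1, h2, TensorProduct.rid_tmul, TensorProduct.lid_tmul, one_smul, hf, zero_smul, sub_zero]

theorem exists_constants :
    ∃ a b : R, x * x = a • x ∧
      Bialgebra.comulAlgHom R A x = x ⊗ₜ[R] 1 + 1 ⊗ₜ[R] x + b • (x ⊗ₜ[R] x) ∧ a * b = -2 := by
  obtain ⟨a, ha⟩ := hgen (x * x) (by rw [map_mul, hx, mul_zero])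
  have hb := comul_eq hx hgen hfree x hx
  generalize coord₂ hx hgen hfree (Bialgebra.comulAlgHom R A x) = b at hb
  refine ⟨a, b, ha, hb, ?_⟩
  obtain ⟨s, hs⟩ := hgen (HopfAlgebra.antipode R x) (by
    simpa using hx)
  have hant : (s + 1 + b * s * a) • x = 0 := by
    have h1 := HopfAlgebra.mul_antipode_rTensor_comul_apply (R := R) x
    rw [show Coalgebra.comul (R := R) x = Bialgebra.comulAlgHom R A x from rfl, hb] at h1
    simp only [map_add, map_smul, LinearMap.rTensor_tmul, LinearMap.mul'_apply, HopfAlgebra.antipode_one,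
      hs, mul_one, one_mul, smul_mul_assoc, ha, smul_smul] at h1
    rw [show Coalgebra.counit (R := R) x = (0 : R) from hx, map_zero] at h1
    linear_combination (norm := module) h1
  have hu : s * (1 + b * a) = -1 := by linear_combination hfree _ hant
  have hsq : (2 + 4 * (a * b) + (a * b) ^ 2) = a * b := by
    have h1 := congrArg (Bialgebra.comulAlgHom R A) ha
    rw [map_mul, map_smul, hb] at h1
    simp only [add_mul, mul_add, smul_mul_assoc, mul_smul_comm, Algebra.TensorProduct.tmul_mul_tmul,
      one_mul, mul_one, ha, smul_add, TensorProduct.smul_tmul', TensorProduct.tmul_smul, smul_smul] at h1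
    have h2 := congrArg (coord₂ hx hgen hfree) h1
    simp only [map_add, map_smul, coord₂_tmul, coord_x, coord_one, smul_eq_mul, mul_zero, zero_mul,
      mul_one, add_zero, zero_add] at h2
    linear_combination h2
  linear_combination (-s) * hsq + (a * b + 2) * hu

theorem bialgEquiv_iff (a b : R) (hxa : x * x = a • x)
    (hxb : Bialgebra.comulAlgHom R A x = x ⊗ₜ[R] 1 + 1 ⊗ₜ[R] x + b • (x ⊗ₜ[R] x))
    {A' : Type v} [CommRing A'] [HopfAlgebra R A']
    {x' : A'} (hx' : Bialgebra.counitAlgHom R A' x' = 0)
    (hgen' : ∀ f : A', Bialgebra.counitAlgHom R A' f = 0 → ∃ r : R, f = r • x')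
    (hfree' : ∀ r : R, r • x' = 0 → r = 0)
    (a' b' : R) (hxa' : x' * x' = a' • x')
    (hxb' : Bialgebra.comulAlgHom R A' x' = x' ⊗ₜ[R] 1 + 1 ⊗ₜ[R] x' + b' • (x' ⊗ₜ[R] x')) :
    Nonempty (A ≃ₐc[R] A') ↔ ∃ s : Rˣ, a = a' * (s : R) ∧ b' = b * (s : R) := by
  constructor
  · rintro ⟨e⟩
    have he : ∀ f, Bialgebra.counitAlgHom R A' (e f) = Bialgebra.counitAlgHom R A f := fun f =>
      CoalgHomClass.counit_comp_apply e f
    obtain ⟨s, hs⟩ := hgen' (e x) ((he x).trans hx)
    have he' : Bialgebra.counitAlgHom R A (e.symm x') = 0 := by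
      rw [← he, BialgEquiv.apply_symm_apply, hx']
    obtain ⟨t, ht⟩ := hgen (e.symm x') he'
    have hts : t * s = 1 := by
      refine sub_eq_zero.1 (hfree' _ ?_)
      have h1 : e (t • x) = x' := by rw [← ht, BialgEquiv.apply_symm_apply]
      rw [map_smul, hs, smul_smul] at h1
      rw [sub_smul, h1, one_smul, sub_self]
    refine ⟨⟨s, t, by rw [mul_comm, hts], hts⟩, ?_, ?_⟩
    · have h1 := congrArg e hxa
      rw [map_mul, map_smul, hs, smul_mul_smul_comm, hxa', smul_smul, smul_smul, ← sub_eq_zero, ← sub_smul] at h1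
      have h2 := hfree' _ h1
      show a = a' * s
      linear_combination (-t) * h2 + (s * a' - a) * hts
    · have h1 : TensorProduct.map e.toLinearMap e.toLinearMap (Bialgebra.comulAlgHom R A x) =
          Bialgebra.comulAlgHom R A' (e x) := CoalgHomClass.map_comp_comul_apply e x
      rw [hxb, hs, map_smul, hxb'] at h1
      simp only [map_add, map_smul, TensorProduct.map_tmul] at h1
      have h2 := congrArg (coord₂ hx' hgen' hfree') h1
      have e1 : e.toLinearMap x = s • x' := hs
      have e2 : e.toLinearMap 1 = (1 : A') := map_one e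
      simp only [e1, e2, map_add, map_smul, coord₂_tmul, coord_x, coord_one, smul_eq_mul, mul_zero, zero_mul,
        mul_one, add_zero, zero_add] at h2
      show b' = b * s
      linear_combination (-t) * h2 + (b * s - b') * hts
  · rintro ⟨s, ha, hb⟩
    let F : A →ₗ[R] A' :=
      LinearMap.toSpanSingleton R A' 1 ∘ₗ (Bialgebra.counitAlgHom R A).toLinearMap +
        LinearMap.toSpanSingleton R A' ((s : R) • x') ∘ₗ coord hx hgen hfree
    let G : A' →ₗ[R] A :=
      LinearMap.toSpanSingleton R A 1 ∘ₗ (Bialgebra.counitAlgHom R A').toLinearMap +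
        LinearMap.toSpanSingleton R A (((s⁻¹ : Rˣ) : R) • x) ∘ₗ coord hx' hgen' hfree'
    have hcx : Coalgebra.counit (R := R) x = (0 : R) := hx
    have hcx' : Coalgebra.counit (R := R) x' = (0 : R) := hx'
    have hF1 : F 1 = 1 := by simp [F, coord_one]
    have hFx : F x = (s : R) • x' := by simp [F, coord_x, hcx]
    have hG1 : G 1 = 1 := by simp [G, coord_one]
    have hGx : G x' = ((s⁻¹ : Rˣ) : R) • x := by simp [G, coord_x, hcx']
    have hFmul : ∀ f g : A, F (f * g) = F f * F g := fun f g => by
      rw [eq_coord hx hgen hfree f, eq_coord hx hgen hfree g]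
      simp only [add_mul, mul_add, smul_mul_assoc, mul_smul_comm, one_mul, mul_one, hxa, map_add, map_smul,
        hF1, hFx, hxa', smul_smul]
      rw [ha]
      module
    have hGF : ∀ f, G (F f) = f := fun f => by
      rw [eq_coord hx hgen hfree f]
      simp only [map_add, map_smul, hF1, hFx, hG1, hGx, smul_smul, Units.mul_inv, mul_one, one_mul, mul_assoc]
    have hFG : ∀ f, F (G f) = f := fun f => by
      rw [eq_coord hx' hgen' hfree' f]
      simp only [map_add, map_smul, hF1, hFx, hG1, hGx, smul_smul, Units.inv_mul, mul_one, one_mul, mul_assoc]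
    let Fa : A →ₐ[R] A' := AlgHom.ofLinearMap F hF1 hFmul
    let Fe : A ≃ₐ[R] A' := AlgEquiv.ofBijective Fa
      ⟨Function.LeftInverse.injective hGF, Function.RightInverse.surjective hFG⟩
    refine ⟨BialgEquiv.ofAlgEquiv Fe (AlgHom.ext fun f => ?_) (AlgHom.ext fun f => ?_)⟩
    · show Bialgebra.counitAlgHom R A' (F f) = Bialgebra.counitAlgHom R A f
      rw [eq_coord hx hgen hfree f]
      simp [hF1, hFx, hcx, hcx']
    · show Algebra.TensorProduct.map Fa Fa (Bialgebra.comulAlgHom R A f) = Bialgebra.comulAlgHom R A' (F f)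
      rw [eq_coord hx hgen hfree f]
      simp only [map_add, map_smul, map_one, hF1, hFx, hxb, hxb', Algebra.TensorProduct.map_tmul,
        show Fa x = (s : R) • x' from hFx, smul_add, smul_smul, ← TensorProduct.smul_tmul',
        TensorProduct.tmul_smul, hb]
      module

end Groth.Agent.OortTate.OrderTwo
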