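import Groth.Agent.OortTate.MuP
import Mathlib.RingTheory.Finiteness.Projective

/-!
# The pairing between the eigen-submodules of a group scheme of order `p` and of its dual
-/

universe u

open scoped TensorProduct
open WithConv

namespace Groth.Agent.OortTate

local notation "E" => _root_.OortTate.eigenAug
local notation "π" => _root_.OortTate.proj

variable (R : Type u) [CommRing R] (A : Type u) [CommRing A] [HopfAlgebra R A]

/-- The projection of `A` onto the `i`-th eigen-submodule of the augmentation ideal. -/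
noncomputable def eProj (p : ℕ) [NeZero p] (u : R) (χ : (ZMod p)ˣ →* Rˣ) (i : ℕ) : A →ₗ[R] A :=
  π R A p u χ i ∘ₗ
    (LinearMap.id - LinearMap.toSpanSingleton R A 1 ∘ₗ (Bialgebra.counitAlgHom R A).toLinearMap)

variable {R A} {p : ℕ} [Fact p.Prime] {u : R} {χ : (ZMod p)ˣ →* Rˣ}

theorem eProj_apply (i : ℕ) (a : A) :
    eProj R A p u χ i a = π R A p u χ i (a - algebraMap R A (Bialgebra.counitAlgHom R A a)) := by
  simp [eProj, Algebra.algebraMap_eq_smul_one]

theorem eProj_mem (hp : toConv (AlgHom.id R A) ^ p = 1) (i : ℕ) (a : A) :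
    eProj R A p u χ i a ∈ E R A p χ i := by
  rw [eProj_apply]
  refine proj_mem_eigenAug hp i ?_
  rw [map_sub, AlgHom.commutes, Algebra.algebraMap_self_apply, sub_self]

theorem eProj_eq_self (hu : u * ((p - 1 : ℕ) : R) = 1) {i : ℕ} {a : A} (ha : a ∈ E R A p χ i) :
    eProj R A p u χ i a = a := by
  rw [eProj_apply, (mem_eigenAug.1 ha).1, map_zero, sub_zero, proj_eq_self hu ha]

theorem eProj_one (i : ℕ) : eProj R A p u χ i 1 = 0 := by
  rw [eProj_apply, map_one, map_one, sub_self, map_zero]

section Dual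

variable [Coalgebra.IsCocomm R A] [Module.Finite R A] [Module.Projective R A]

theorem apply_eProj (hu : u * ((p - 1 : ℕ) : R) = 1) {i : ℕ} {φ : CartDual.D R A}
    (hφ : φ ∈ E R (CartDual.D R A) p χ i) (a : A) : φ (eProj R A p u χ i a) = φ a := by
  rw [eProj_apply, ← proj_dual, proj_eq_self hu hφ, map_sub, Algebra.algebraMap_eq_smul_one, map_smul,
    show φ.ofConv 1 = 0 from (mem_eigenAug.1 hφ).1, smul_zero, sub_zero]

end Dual

namespace Setup

variable [Module.Finite R A] [Module.Projective R A] (h : Setup R A p u χ)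
include h

theorem sum_eProj (a : A) :
    algebraMap R A (Bialgebra.counitAlgHom R A a) + ∑ i : Fin (p - 1), eProj R A p u χ (i : ℕ) a = a := by
  simp only [eProj_apply]
  rw [sum_proj h.hu h.hχ h.hp, add_sub_cancel]

/-- In an invertible module `φ a • b = φ b • a`. -/
theorem swap (φ : A →ₗ[R] R) {a b : A} (ha : a ∈ E R A p χ 1) (hb : b ∈ E R A p χ 1) :
    φ a • b = φ b • a := by
  let C : Ideal R :=
    { carrier := {r | r • (φ a • b - φ b • a) = 0}
      add_mem' := fun hx hy => by
        simp only [Set.mem_setOf_eq] at *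
        rw [add_smul, hx, hy, add_zero]
      zero_mem' := by simp
      smul_mem' := fun c x hx => by
        simp only [Set.mem_setOf_eq, smul_eq_mul] at *
        rw [mul_smul, hx, smul_zero] }
  suffices C = ⊤ by
    simpa [C, sub_eq_zero] using (Ideal.eq_top_iff_one C).1 this
  by_contra hC
  obtain ⟨m, hm, hCm⟩ := Ideal.exists_le_maximal C hC
  obtain ⟨s, hs, e, -, hse⟩ := h.exists_generator ⟨m, hm.isPrime⟩
  obtain ⟨r₁, h₁⟩ := Submodule.mem_span_singleton.1 (hse a ha)
  obtain ⟨r₂, h₂⟩ := Submodule.mem_span_singleton.1 (hse b hb)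
  refine hs (hm.isPrime.mem_of_pow_mem 2 (hCm ?_))
  show s ^ 2 • (φ a • b - φ b • a) = 0
  have e1 : ∀ x y : A, s ^ 2 • (φ x • y) = φ (s • x) • (s • y) := fun x y => by
    simp only [map_smul, smul_eq_mul, smul_smul]
    congr 1
    ring
  rw [smul_sub, e1, e1, ← h₁, ← h₂, map_smul, map_smul, smul_smul, smul_smul, ← sub_smul]
  simp [smul_eq_mul, mul_comm, mul_left_comm]

theorem eq_zero_of_smul_eq_zero' {t : ℕ} {r : R} (hr : r • eProj R A p u χ t = 0) : r = 0 :=
  h.eq_zero_of_smul_eq_zero t r fun a ha => by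
    simpa [eProj_eq_self h.hu ha] using LinearMap.congr_fun hr a

/-- The ring map from the coordinate ring of `μ_p` to the convolution algebra of endomorphisms
sending the generator to the identity. -/
theorem exists_psi :
    haveI := h.isCocomm
    ∃ Ψ : MonoidAlgebra R (Multiplicative (ZMod p)) →ₐ[R] WithConv (A →ₗ[R] A),
      Ψ (_root_.OortTate.muT R p) = toConv LinearMap.id ∧
      ∀ i : ℕ, Ψ (_root_.OortTate.ygen R p u χ i) = toConv (eProj R A p u χ i) := by
  haveI := h.isCocomm
  have hlin : ∀ n : ℕ, toConv (SGA3b.powConv R A n).toLinearMap =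
      (toConv (LinearMap.id : A →ₗ[R] A)) ^ n := fun n =>
    AlgHom.toLinearMap_convPow (toConv (AlgHom.id R A)) n
  have hI : (toConv (LinearMap.id : A →ₗ[R] A)) ^ p = 1 := by
    rw [← hlin, show SGA3b.powConv R A p = (1 : WithConv (A →ₐ[R] A)).ofConv from congrArg ofConv h.hp]
    rfl
  let F : Multiplicative (ZMod p) →* WithConv (A →ₗ[R] A) :=
    { toFun := fun k => toConv LinearMap.id ^ k.toAdd.val
      map_one' := by simp
      map_mul' := fun k l => by
        rw [← pow_add, toAdd_mul, ZMod.val_add, ← pow_eq_pow_mod _ hI] }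
  refine ⟨MonoidAlgebra.lift R _ _ F, ?_, fun i => ?_⟩
  · rw [MonoidAlgebra.lift_of]
    show (toConv (LinearMap.id : A →ₗ[R] A)) ^ (1 : ZMod p).val = _
    rw [ZMod.val_one_eq_one_mod, Nat.mod_eq_of_lt (Fact.out : p.Prime).one_lt, pow_one]
  rw [_root_.OortTate.ygen, proj_apply, map_smul, map_sum]
  apply WithConv.ofConv_injective
  ext a
  simp only [WithConv.ofConv_smul, LinearMap.smul_apply, WithConv.ofConv_sum, LinearMap.sum_apply,
    eProj_apply, proj_apply, ofConv_toConv]
  congr 1
  refine Finset.sum_congr rfl fun m _ => ?_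
  have hm : ((Multiplicative.ofAdd (1 : ZMod p)) ^ (m : ZMod p).val).toAdd = (m : ZMod p) := by simp
  rw [map_smul, map_sub, map_sub, map_one, map_one, powConv_of, MonoidAlgebra.lift_of,
    WithConv.ofConv_smul, LinearMap.smul_apply, map_sub, AlgHom.commutes]
  congr 1
  show (toConv (LinearMap.id : A →ₗ[R] A) ^ _ - 1).ofConv a = _
  rw [hm, ← hlin]
  rfl

/-- The convolution powers of the first projection. -/
theorem convPow_eProj {t : ℕ} {w : R}
    (hw : _root_.OortTate.ygen R p u χ 1 ^ t = w • _root_.OortTate.ygen R p u χ t) :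
    toConv (eProj R A p u χ 1) ^ t = w • toConv (eProj R A p u χ t) := by
  haveI := h.isCocomm
  obtain ⟨Ψ, -, hΨ⟩ := h.exists_psi
  rw [← hΨ, ← hΨ, ← map_pow, hw, map_smul]

omit [Fact p.Prime] h in
theorem rankAtStalk_dual (n : ℕ) (hn : ∀ q : PrimeSpectrum R, Module.rankAtStalk A q = n)
    (q : PrimeSpectrum R) : Module.rankAtStalk (CartDual.D R A) q = n := by
  obtain ⟨N, f, g, -, -, hfg⟩ := Module.Finite.exists_comp_eq_id_of_projective R A
  let S := Localization.AtPrime q.asIdeal
  have hS : Module.finrank S (S ⊗[R] A) = n := by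
    rw [← Module.rankAtStalk_eq_finrank_tensorProduct q]
    exact hn q
  have : Module.Free S (S ⊗[R] A) := Module.free_of_flat_of_isLocalRing
  rw [Module.rankAtStalk_eq_finrank_tensorProduct]
  let Λ : S ⊗[R] CartDual.D R A →ₗ[S] Module.Dual S (S ⊗[R] A) :=
    LinearMap.liftBaseChange S
      { toFun := fun φ => ((Algebra.linearMap R S) ∘ₗ φ.ofConv).liftBaseChange S
        map_add' := fun φ ψ => by ext a; simp
        map_smul' := fun r φ => by ext a; simp [Algebra.smul_def] }
  let d : Fin N → CartDual.D R A := fun i => toConv (LinearMap.proj i ∘ₗ g)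
  let e : Fin N → A := fun i => f (Pi.single i 1)
  have hdual : ∀ a : A, ∑ i, d i a • e i = a := fun a => by
    have : f (∑ i, g a i • Pi.single i (1 : R)) = a := by
      rw [← pi_eq_sum_univ' (g a)]
      exact LinearMap.congr_fun hfg a
    simpa [d, e, map_sum] using this
  have hΛ : ∀ (k : S) (φ : CartDual.D R A) (a : A), Λ (k ⊗ₜ φ) (1 ⊗ₜ a) = k * algebraMap R S (φ a) := by
    intro k φ a
    simp [Λ]
  have hbij : Function.Bijective Λ := by
    refine Function.bijective_iff_has_inverse.2
      ⟨fun L => ∑ i, L (1 ⊗ₜ e i) • ((1 : S) ⊗ₜ[R] d i), fun w => ?_, fun L => ?_⟩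
    · induction w using TensorProduct.induction_on with
      | zero => simp
      | add v w hv hw =>
        simp only [map_add, LinearMap.add_apply, add_smul, Finset.sum_add_distrib] at hv hw ⊢
        rw [hv, hw]
      | tmul k φ =>
        have hφ : φ = ∑ i, φ (e i) • d i := by
          apply WithConv.ofConv_injective
          ext a
          conv_lhs => rw [← hdual a]
          simp [map_sum, mul_comm]
        conv_rhs => rw [hφ, TensorProduct.tmul_sum]
        refine Finset.sum_congr rfl fun i _ => ?_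
        rw [hΛ, TensorProduct.tmul_smul, TensorProduct.smul_tmul', TensorProduct.smul_tmul', smul_eq_mul,
          mul_one, Algebra.smul_def, mul_comm]
    · apply TensorProduct.AlgebraTensorModule.ext
      intro k a
      rw [show k ⊗ₜ[R] a = k • ((1 : S) ⊗ₜ[R] a) by simp [TensorProduct.smul_tmul'], map_smul, map_smul]
      congr 1
      conv_rhs => rw [← hdual a]
      simp only [map_sum, LinearMap.sum_apply, map_smul, LinearMap.smul_apply, hΛ, one_mul,
        TensorProduct.tmul_sum]
      refine Finset.sum_congr rfl fun i _ => ?_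
      rw [smul_eq_mul, TensorProduct.tmul_smul, LinearMap.map_smul_of_tower, Algebra.smul_def, mul_comm]
  rw [(LinearEquiv.ofBijective Λ hbij).finrank_eq, ← (Module.Free.chooseBasis S (S ⊗[R] A)).toDualEquiv.finrank_eq, hS]

theorem dual [Coalgebra.IsCocomm R A] : Setup R (CartDual.D R A) p u χ :=
  ⟨h.hu, h.hχ, h.hχp, rankAtStalk_dual p h.hrk⟩

end Setup

end Groth.Agent.OortTate
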