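import Groth.Agent.OortTate.Cocomm
import Groth.Agent.HopfLib.Deligne
import Groth.Agent.FinHopf.BaseChange
import Mathlib.LinearAlgebra.TensorAlgebra.Basic

/-!
# The eigen-submodules of a group scheme of order `p` are invertible and generated by the first one
-/

universe u

open scoped TensorProduct
open WithConv

namespace Groth.Agent.OortTate

local notation "E" => _root_.OortTate.eigenAug
local notation "π" => _root_.OortTate.proj

section BaseChange

variable {R : Type u} [CommRing R] {A : Type u} [CommRing A] [HopfAlgebra R A]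
  (K : Type u) [CommRing K] [Algebra R K]

theorem one_tmul_powConv (n : ℕ) (a : A) :
    SGA3b.powConv K (K ⊗[R] A) n (1 ⊗ₜ a) = 1 ⊗ₜ SGA3b.powConv R A n a := by
  have h : FinHopf.restrictPts (A := A) K (K ⊗[R] A) (toConv (AlgHom.id K (K ⊗[R] A))) =
      FinHopf.postComp (C := A) Algebra.TensorProduct.includeRight (toConv (AlgHom.id R A)) := by
    apply WithConv.ofConv_injective
    ext a
    rfl
  have h2 := congrArg (· ^ n) h
  simp only [← map_pow] at h2
  exact DFunLike.congr_fun (congrArg WithConv.ofConv h2) a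

variable {p : ℕ} (χ : (ZMod p)ˣ →* Rˣ)

/-- The character with values in a base change. -/
noncomputable abbrev chiK : (ZMod p)ˣ →* Kˣ :=
  (Units.map (algebraMap R K : R →* K)).comp χ

theorem one_tmul_mem_eigenAug {i : ℕ} {a : A} (ha : a ∈ E R A p χ i) :
    (1 : K) ⊗ₜ[R] a ∈ E K (K ⊗[R] A) p (chiK K χ) i := by
  rw [mem_eigenAug] at ha ⊢
  have hε : Coalgebra.counit (R := R) a = 0 := ha.1
  refine ⟨by simp [TensorProduct.counit_tmul, hε], fun m => ?_⟩
  rw [one_tmul_powConv, ha.2, TensorProduct.tmul_smul, ← algebraMap_smul K (((χ m : Rˣ) : R) ^ i),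
    map_pow]
  rfl

theorem one_tmul_proj [NeZero p] (u : R) (i : ℕ) (a : A) :
    π K (K ⊗[R] A) p (algebraMap R K u) (chiK K χ) i (1 ⊗ₜ a) = 1 ⊗ₜ π R A p u χ i a := by
  rw [proj_apply, proj_apply, TensorProduct.tmul_smul, ← algebraMap_smul K u, TensorProduct.tmul_sum]
  congr 1
  refine Finset.sum_congr rfl fun m _ => ?_
  rw [one_tmul_powConv, TensorProduct.tmul_smul, ← algebraMap_smul K (((χ m⁻¹ : Rˣ) : R) ^ i),
    map_pow]
  rfl

/-- The `K`-span of a submodule in the base change. -/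
noncomputable def fibreSpan (M : Submodule R A) : Submodule K (K ⊗[R] A) :=
  Submodule.span K ((fun a => (1 : K) ⊗ₜ[R] a) '' M)

theorem fibreSpan_mono {M N : Submodule R A} (h : M ≤ N) : fibreSpan K M ≤ fibreSpan K N :=
  Submodule.span_mono (Set.image_mono h)

theorem fibreSpan_mul_le (M N : Submodule R A) :
    fibreSpan K M * fibreSpan K N ≤ fibreSpan K (M * N) := by
  rw [fibreSpan, fibreSpan, Submodule.span_mul_span, Submodule.span_le]
  rintro _ ⟨_, ⟨a, ha, rfl⟩, _, ⟨b, hb, rfl⟩, rfl⟩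
  exact Submodule.subset_span ⟨a * b, Submodule.mul_mem_mul ha hb,
    by simp [Algebra.TensorProduct.tmul_mul_tmul]⟩

theorem pow_mem_fibreSpan_pow {M : Submodule R A} {z : K ⊗[R] A} (hz : z ∈ fibreSpan K M)
    {t : ℕ} (ht : 1 ≤ t) : z ^ t ∈ fibreSpan K (M ^ t) := by
  induction t, ht using Nat.le_induction with
  | base => simpa using hz
  | succ n _ ih => rw [pow_succ, pow_succ]; exact fibreSpan_mul_le K _ _ (Submodule.mul_mem_mul ih hz)

variable [Fact p.Prime] {u : R}

theorem fibreSpan_eigenAug (hu : u * ((p - 1 : ℕ) : R) = 1) (hp : toConv (AlgHom.id R A) ^ p = 1)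
    (i : ℕ) : fibreSpan K (E R A p χ i) = E K (K ⊗[R] A) p (chiK K χ) i := by
  refine le_antisymm (Submodule.span_le.2 ?_) fun z hz => ?_
  · rintro _ ⟨a, ha, rfl⟩
    exact one_tmul_mem_eigenAug K χ ha
  · have huK : algebraMap R K u * ((p - 1 : ℕ) : K) = 1 := by
      rw [← map_natCast (algebraMap R K), ← map_mul, hu, map_one]
    have key : ∀ w : K ⊗[R] A, π K (K ⊗[R] A) p (algebraMap R K u) (chiK K χ) i
        (w - algebraMap K _ (Bialgebra.counitAlgHom K (K ⊗[R] A) w)) ∈ fibreSpan K (E R A p χ i) := by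
      intro w
      induction w using TensorProduct.induction_on with
      | zero => simp
      | add v w hv hw =>
        convert add_mem hv hw using 1
        rw [← map_add (π K (K ⊗[R] A) p (algebraMap R K u) (chiK K χ) i)]
        congr 1
        simp only [map_add]
        abel
      | tmul k a =>
        have e : k ⊗ₜ[R] a - algebraMap K _ (Bialgebra.counitAlgHom K (K ⊗[R] A) (k ⊗ₜ a)) =
            k • ((1 : K) ⊗ₜ[R] (a - algebraMap R A (Bialgebra.counitAlgHom R A a))) := by
          rw [TensorProduct.tmul_sub, smul_sub, TensorProduct.smul_tmul', smul_eq_mul, mul_one,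
            Algebra.algebraMap_eq_smul_one (R := R), TensorProduct.tmul_smul,
            TensorProduct.smul_tmul']
          simp [Algebra.algebraMap_eq_smul_one, TensorProduct.counit_tmul, Algebra.TensorProduct.one_def,
            TensorProduct.smul_tmul']
        rw [e, map_smul, one_tmul_proj]
        refine Submodule.smul_mem _ _ (Submodule.subset_span ⟨_, proj_mem_eigenAug hp i ?_, rfl⟩)
        rw [map_sub, AlgHom.commutes, Algebra.algebraMap_self_apply, sub_self]
    have h := key z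
    rwa [(mem_eigenAug.1 hz).1, map_zero, sub_zero, proj_eq_self huK hz] at h

end BaseChange

section AlgClosed

variable {K : Type u} [Field K] [IsAlgClosed K] {A : Type u} [CommRing A] [HopfAlgebra K A]
  [Module.Finite K A] {p : ℕ} [Fact p.Prime] {u : K} {χ : (ZMod p)ˣ →* Kˣ}

theorem exists_eigen_span (hu : u * ((p - 1 : ℕ) : K) = 1)
    (hχ : ∀ m : (ZMod p)ˣ, m ≠ 1 → IsUnit ((χ m : K) - 1))
    (hχp : ∀ m : (ZMod p)ˣ,
      ((χ m : Kˣ) : K) - (((m : ZMod p).val : ℕ) : K) ∈ Ideal.span ({(p : K)} : Set K))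
    (hA : Module.finrank K A = p) :
    ∃ x ∈ E K A p χ 1, ∀ t, 1 ≤ t → t ≤ p - 1 → x ^ t ≠ 0 ∧ E K A p χ t = K ∙ x ^ t := by
  obtain ⟨x, hx, hxp⟩ := exists_eigen_pow_ne_zero hu χ hχp hA
  have hp : toConv (AlgHom.id K A) ^ p = 1 := by
    have := FinHopf.convPow_id_eq_one (k := K) (A := A)
    rwa [hA] at this
  have hne : ∀ t, t ≤ p - 1 → x ^ t ≠ 0 := fun t ht h => hxp (by
    rw [← Nat.add_sub_cancel' ht, pow_add, h, zero_mul])
  have hp2 := (Fact.out : p.Prime).two_le
  let idx : Fin (p - 1) → ℕ := fun i => if (i : ℕ) = 0 then p - 1 else i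
  have hidx : ∀ i, 1 ≤ idx i ∧ idx i ≤ p - 1 ∧ idx i % (p - 1) = i := fun i => by
    have := i.2
    dsimp only [idx]
    split_ifs with h
    · refine ⟨by omega, le_rfl, ?_⟩
      rw [Nat.mod_self]
      omega
    · exact ⟨by omega, by omega, Nat.mod_eq_of_lt i.2⟩
  have hmem : ∀ i : Fin (p - 1), x ^ idx i ∈ E K A p χ (i : ℕ) := fun i => by
    have := pow_mem_eigenAug hx (hidx i).1
    rwa [eigenAug_mod, (hidx i).2.2] at this
  have hli : LinearIndependent K fun i => x ^ idx i :=
    (iSupIndep_eigenAug hu hχ hp).linearIndependent _ hmem fun i => hne _ (hidx i).2.1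
  have hI : Submodule.span K (Set.range fun i => x ^ idx i) =
      LinearMap.ker (Bialgebra.counitAlgHom K A).toLinearMap := by
    refine Submodule.eq_of_le_of_finrank_eq ?_ ?_
    · rw [Submodule.span_le]
      rintro _ ⟨i, rfl⟩
      exact eigenAug_le_ker _ (hmem i)
    · rw [finrank_span_eq_card hli, Fintype.card_fin]
      have h := LinearMap.finrank_range_add_finrank_ker (Bialgebra.counitAlgHom K A).toLinearMap
      have hs : Function.Surjective (Bialgebra.counitAlgHom K A).toLinearMap := fun c =>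
        ⟨algebraMap K A c, (Bialgebra.counitAlgHom K A).commutes c⟩
      rw [LinearMap.range_eq_top.2 hs, finrank_top, Module.finrank_self, hA] at h
      omega
  refine ⟨x, hx, fun t ht ht' => ⟨hne t ht', le_antisymm (fun f hf => ?_)
    ((Submodule.span_singleton_le_iff_mem _ _).2 (pow_mem_eigenAug hx ht))⟩⟩
  obtain ⟨i, rfl⟩ : ∃ i : Fin (p - 1), idx i = t := by
    rcases Nat.lt_or_ge t (p - 1) with h | h
    · exact ⟨⟨t, h⟩, if_neg (show ¬ t = 0 by omega)⟩
    · exact ⟨⟨0, by omega⟩, (if_pos rfl).trans (by omega)⟩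
  rw [eigenAug_mod, (hidx i).2.2] at hf
  obtain ⟨c, hc⟩ := (Submodule.mem_span_range_iff_exists_fun K).1 (hI.symm ▸ eigenAug_le_ker _ hf)
  rw [← proj_eq_self hu hf, ← hc, map_sum, Finset.sum_eq_single i]
  · rw [map_smul, proj_eq_self hu (hmem i)]
    exact Submodule.smul_mem _ _ (Submodule.mem_span_singleton_self _)
  · intro j _ hj
    rw [map_smul, ← proj_eq_self hu (hmem j), proj_proj_of_ne hu hχ hp (Ne.symm hj), smul_zero]
  · simp

end AlgClosed

section Rank

variable {R : Type u} [CommRing R] {A : Type u} [CommRing A] [HopfAlgebra R A]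
  [Module.Finite R A] [Module.Projective R A] {p : ℕ} [Fact p.Prime] {u : R}
  {χ : (ZMod p)ˣ →* Rˣ}

omit [Fact p.Prime] in
theorem finrank_fibre {M : Type u} [AddCommGroup M] [Module R M] [Module.Finite R M] [Module.Projective R M]
    (q : PrimeSpectrum R) (K : Type u) [Field K] [Algebra R K]
    (hK : RingHom.ker (algebraMap R K) = q.asIdeal) :
    Module.finrank K (K ⊗[R] M) = Module.rankAtStalk (R := R) M q := by
  have h := Module.rankAtStalk_baseChange (R := R) (M := M) (S := K) ⊥
  rw [Module.rankAtStalk_eq_finrank_of_free] at h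
  simp only [Pi.natCast_apply, Nat.cast_id] at h
  rw [h]
  congr 1
  exact PrimeSpectrum.ext hK

/-- The geometric point over a prime. -/
abbrev GeomPt (q : PrimeSpectrum R) : Type u := AlgebraicClosure q.asIdeal.ResidueField

omit [Fact p.Prime] in
theorem ker_geomPt (q : PrimeSpectrum R) : RingHom.ker (algebraMap R (GeomPt q)) = q.asIdeal := by
  rw [IsScalarTower.algebraMap_eq R q.asIdeal.ResidueField (GeomPt q),
    RingHom.ker_comp_of_injective _ (RingHom.injective _), Ideal.ker_algebraMap_residueField]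

omit [Fact p.Prime] in
/-- A criterion for `s • M ≤ N` near a prime. -/
theorem exists_notMem_smul_mem (q : PrimeSpectrum R) (N M : Submodule R A) (P : A →ₗ[R] M)
    (hP : ∀ m : M, P m = m) (hNM : N ≤ M) (h : fibreSpan (GeomPt q) M ≤ fibreSpan (GeomPt q) N) :
    ∃ s ∉ q.asIdeal, ∀ a ∈ M, s • a ∈ N := by
  let K := GeomPt q
  let N' := N.comap M.subtype
  have : Module.Finite R M := Module.Finite.of_surjective P fun m => ⟨m, hP m⟩
  let g : A →ₗ[R] M ⧸ N' := N'.mkQ ∘ₗ P
  have hN : ∀ n ∈ N, n ∈ M → g n = 0 := fun n hn hnM => by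
    show N'.mkQ (P n) = 0
    rw [hP ⟨n, hnM⟩, Submodule.mkQ_apply, Submodule.Quotient.mk_eq_zero]
    exact hn
  have hzero : ∀ w ∈ fibreSpan K N, g.baseChange K w = 0 := by
    intro w hw
    induction hw using Submodule.span_induction with
    | mem w hw =>
      obtain ⟨n, hn, rfl⟩ := hw
      rw [LinearMap.baseChange_tmul, hN n hn (hNM hn), TensorProduct.tmul_zero]
    | zero => simp
    | add v w _ _ hv hw => rw [map_add, hv, hw, add_zero]
    | smul c w _ hw => rw [map_smul, hw, smul_zero]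
  have hK : Subsingleton (K ⊗[R] (M ⧸ N')) := by
    refine subsingleton_of_forall_eq 0 fun w => ?_
    induction w using TensorProduct.induction_on with
    | zero => rfl
    | add v w hv hw => rw [hv, hw, add_zero]
    | tmul k c =>
      obtain ⟨m, rfl⟩ := N'.mkQ_surjective c
      have h1 : g.baseChange K ((1 : K) ⊗ₜ[R] (m : A)) = 0 :=
        hzero _ (h (Submodule.subset_span ⟨m, m.2, rfl⟩))
      rw [LinearMap.baseChange_tmul] at h1
      have hk := congrArg (k • ·) h1
      simp only [TensorProduct.smul_tmul', smul_eq_mul, mul_one, smul_zero, g, LinearMap.comp_apply, hP] at hk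
      exact hk
  have hκ : Subsingleton (q.asIdeal.ResidueField ⊗[R] (M ⧸ N')) := by
    rw [← Module.finrank_zero_iff (R := q.asIdeal.ResidueField), ← Module.finrank_baseChange (R := K),
      (TensorProduct.AlgebraTensorModule.cancelBaseChange R q.asIdeal.ResidueField K K (M ⧸ N')).finrank_eq,
      Module.finrank_zero_iff]
    exact hK
  have hns : q ∉ Module.support R (M ⧸ N') := fun hs => by
    have := (Module.mem_support_iff_nontrivial_residueField_tensorProduct q).1 hs
    exact false_of_nontrivial_of_subsingleton (q.asIdeal.ResidueField ⊗[R] (M ⧸ N'))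
  rw [Module.mem_support_iff_of_finite, SetLike.not_le_iff_exists] at hns
  obtain ⟨s, hs, hsq⟩ := hns
  refine ⟨s, hsq, fun a ha => ?_⟩
  have h2 := Module.mem_annihilator.1 hs (N'.mkQ ⟨a, ha⟩)
  rw [← map_smul, Submodule.mkQ_apply, Submodule.Quotient.mk_eq_zero] at h2
  exact h2

omit [Fact p.Prime] in
theorem span_singleton_le_of_mem {M : Submodule R A} {e : A} (he : e ∈ M) : R ∙ e ≤ M :=
  (Submodule.span_singleton_le_iff_mem _ _).2 he

omit [Fact p.Prime] in
theorem smul_pow_mem_span (M : Submodule R A) (s : R) (e : A) (h : ∀ a ∈ M, s • a ∈ R ∙ e)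
    {t : ℕ} (ht : 1 ≤ t) : ∀ a ∈ M ^ t, s ^ t • a ∈ R ∙ e ^ t := by
  induction t, ht using Nat.le_induction with
  | base => simpa using h
  | succ n _ ih =>
    intro a ha
    rw [pow_succ] at ha
    induction ha using Submodule.mul_induction_on' with
    | mem_mul_mem b hb c hc =>
      obtain ⟨r₁, h1⟩ := Submodule.mem_span_singleton.1 (ih b hb)
      obtain ⟨r₂, h2⟩ := Submodule.mem_span_singleton.1 (h c hc)
      exact Submodule.mem_span_singleton.2 ⟨r₁ * r₂, by
        rw [pow_succ, pow_succ, ← smul_mul_smul_comm, h1, h2, smul_mul_smul_comm]⟩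
    | add b _ c _ hb hc => rw [smul_add]; exact add_mem hb hc

/-- The hypotheses of the theory of group schemes of order `p`. -/
structure Setup (R : Type u) [CommRing R] (A : Type u) [CommRing A] [HopfAlgebra R A]
    [Module.Finite R A] [Module.Projective R A] (p : ℕ) (u : R) (χ : (ZMod p)ˣ →* Rˣ) : Prop where
  hu : u * ((p - 1 : ℕ) : R) = 1
  hχ : ∀ m : (ZMod p)ˣ, m ≠ 1 → IsUnit ((χ m : R) - 1)
  hχp : ∀ m : (ZMod p)ˣ,
    ((χ m : Rˣ) : R) - (((m : ZMod p).val : ℕ) : R) ∈ Ideal.span ({(p : R)} : Set R)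
  hrk : ∀ q : PrimeSpectrum R, Module.rankAtStalk A q = p

namespace Setup

variable (h : Setup R A p u χ)
include h

theorem isCocomm : Coalgebra.IsCocomm R A := isCocomm_of_rankAtStalk_eq_prime h.hrk

theorem hp : toConv (AlgHom.id R A) ^ p = 1 :=
  haveI := h.isCocomm
  HopfLib.convPow_id_eq_one p h.hrk

theorem exists_retraction (i : ℕ) :
    ∃ P : A →ₗ[R] E R A p χ i, ∀ m : E R A p χ i, P m = m := by
  let q : A →ₗ[R] A := LinearMap.id -
    LinearMap.toSpanSingleton R A 1 ∘ₗ (Bialgebra.counitAlgHom R A).toLinearMap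
  refine ⟨(π R A p u χ i ∘ₗ q).codRestrict _ fun a => proj_mem_eigenAug h.hp i (by simp [q]),
    fun m => Subtype.ext ?_⟩
  show π R A p u χ i (q m) = m
  have hm : Coalgebra.counit (R := R) (m : A) = 0 := (mem_eigenAug.1 m.2).1
  rw [show q m = (m : A) by simp [q, hm]]
  exact proj_eq_self h.hu m.2

theorem finite (i : ℕ) : Module.Finite R (E R A p χ i) :=
  have ⟨P, hP⟩ := h.exists_retraction i
  Module.Finite.of_surjective P fun m => ⟨m, hP m⟩

theorem projective (i : ℕ) : Module.Projective R (E R A p χ i) :=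
  have ⟨P, hP⟩ := h.exists_retraction i
  Module.Projective.of_split (E R A p χ i).subtype P (LinearMap.ext hP)

theorem geom (q : PrimeSpectrum R) :
    ∃ x ∈ fibreSpan (GeomPt q) (E R A p χ 1), ∀ t, 1 ≤ t → t ≤ p - 1 → x ^ t ≠ 0 ∧
      fibreSpan (GeomPt q) (E R A p χ t) = GeomPt q ∙ x ^ t := by
  let K := GeomPt q
  show ∃ x ∈ fibreSpan K (E R A p χ 1), ∀ t, 1 ≤ t → t ≤ p - 1 → x ^ t ≠ 0 ∧
    fibreSpan K (E R A p χ t) = K ∙ x ^ t
  rw [fibreSpan_eigenAug K χ h.hu h.hp]
  conv in fibreSpan K _ => rw [fibreSpan_eigenAug K χ h.hu h.hp]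
  refine exists_eigen_span (u := algebraMap R K u) ?_ (fun m hm => ?_) (fun m => ?_) ?_
  · rw [← map_natCast (algebraMap R K), ← map_mul, h.hu, map_one]
  · have := (h.hχ m hm).map (algebraMap R K)
    rwa [map_sub, map_one] at this
  · have := Ideal.mem_map_of_mem (algebraMap R K) (h.hχp m)
    rwa [Ideal.map_span, Set.image_singleton, map_sub, map_natCast, map_natCast] at this
  · rw [finrank_fibre q K (ker_geomPt q), h.hrk]

theorem pow_le (t : ℕ) (ht : 1 ≤ t) : E R A p χ 1 ^ t ≤ E R A p χ t := by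
  induction t, ht using Nat.le_induction with
  | base => simp
  | succ n _ ih =>
    rw [pow_succ, Submodule.mul_le]
    exact fun a ha b hb => mul_mem_eigenAug (ih ha) hb

theorem pow_eq (t : ℕ) (ht : 1 ≤ t) (ht' : t ≤ p - 1) : E R A p χ 1 ^ t = E R A p χ t := by
  refine le_antisymm (h.pow_le t ht) fun a ha => ?_
  obtain ⟨P, hP⟩ := h.exists_retraction t
  let J : Ideal R :=
    { carrier := {r | r • a ∈ E R A p χ 1 ^ t}
      add_mem' := fun hx hy => by simpa [add_smul] using add_mem hx hy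
      zero_mem' := by simp
      smul_mem' := fun c x hx => by simpa [mul_smul] using Submodule.smul_mem _ c hx }
  suffices J = ⊤ by simpa [J] using (Ideal.eq_top_iff_one J).1 this
  by_contra hJ
  obtain ⟨m, hm, hJm⟩ := Ideal.exists_le_maximal J hJ
  obtain ⟨x, hx, hxt⟩ := h.geom ⟨m, hm.isPrime⟩
  obtain ⟨s, hs, hsa⟩ := exists_notMem_smul_mem ⟨m, hm.isPrime⟩ (E R A p χ 1 ^ t) _ P hP (h.pow_le t ht) (by
    rw [(hxt t ht ht').2, Submodule.span_singleton_le_iff_mem]
    exact pow_mem_fibreSpan_pow _ hx ht)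
  exact hs (hJm (hsa a ha))

theorem exists_generator (q : PrimeSpectrum R) :
    ∃ s ∉ q.asIdeal, ∃ e ∈ E R A p χ 1, ∀ a ∈ E R A p χ 1, s • a ∈ R ∙ e := by
  obtain ⟨P, hP⟩ := h.exists_retraction 1
  obtain ⟨x, -, hxt⟩ := h.geom q
  have hp2 := (Fact.out : p.Prime).two_le
  have hx1 := hxt 1 le_rfl (by omega)
  rw [pow_one] at hx1
  obtain ⟨e, he, hne⟩ : ∃ e ∈ E R A p χ 1, (1 : GeomPt q) ⊗ₜ[R] e ≠ 0 := by
    by_contra! hall
    have : fibreSpan (GeomPt q) (E R A p χ 1) ≤ ⊥ := Submodule.span_le.2 (by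
      rintro _ ⟨a, ha, rfl⟩
      simp [hall a ha])
    rw [hx1.2, le_bot_iff, Submodule.span_singleton_eq_bot] at this
    exact hx1.1 this
  obtain ⟨s, hs, hsa⟩ := exists_notMem_smul_mem q (R ∙ e) _ P hP (span_singleton_le_of_mem he) (by
    have hmem : (1 : GeomPt q) ⊗ₜ[R] e ∈ fibreSpan (GeomPt q) (E R A p χ 1) :=
      Submodule.subset_span ⟨e, he, rfl⟩
    rw [hx1.2, Submodule.mem_span_singleton] at hmem
    obtain ⟨c, hc⟩ := hmem
    have hc0 : c ≠ 0 := fun h0 => hne (by rw [← hc, h0, zero_smul])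
    rw [hx1.2, Submodule.span_singleton_le_iff_mem]
    rw [show x = c⁻¹ • ((1 : GeomPt q) ⊗ₜ[R] e) by rw [← hc, smul_smul, inv_mul_cancel₀ hc0, one_smul]]
    exact Submodule.smul_mem _ _ (Submodule.subset_span ⟨e, Submodule.mem_span_singleton_self e, rfl⟩))
  exact ⟨s, hs, e, he, hsa⟩

theorem exists_eq (i : ℕ) : ∃ t, 1 ≤ t ∧ t ≤ p - 1 ∧ E R A p χ i = E R A p χ t := by
  have hp2 := (Fact.out : p.Prime).two_le
  refine ⟨if i % (p - 1) = 0 then p - 1 else i % (p - 1), ?_, ?_, ?_⟩ <;>
    have := Nat.mod_lt i (show p - 1 > 0 by omega)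
  · split_ifs <;> omega
  · split_ifs <;> omega
  · refine (eigenAug_mod i).trans ((congrArg (E R A p χ) ?_).trans (eigenAug_mod _).symm)
    split_ifs with h0
    · rw [Nat.mod_self, h0]
    · rw [Nat.mod_mod]

theorem rank_eq_one (i : ℕ) (q : PrimeSpectrum R) :
    Module.rankAtStalk (↥(E R A p χ i)) q = 1 := by
  obtain ⟨t, ht, ht', hE⟩ := h.exists_eq i
  rw [hE]
  let K := GeomPt q
  have := h.finite t
  have := h.projective t
  obtain ⟨P, hP⟩ := h.exists_retraction t
  obtain ⟨x, -, hxt⟩ := h.geom q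
  have hinj : Function.Injective ((E R A p χ t).subtype.baseChange K) :=
    Function.LeftInverse.injective (g := P.baseChange K) fun w => by
      rw [← LinearMap.comp_apply, ← LinearMap.baseChange_comp,
        show P ∘ₗ (E R A p χ t).subtype = LinearMap.id from LinearMap.ext hP, LinearMap.baseChange_id,
        LinearMap.id_apply]
  have hr : LinearMap.range ((E R A p χ t).subtype.baseChange K) = fibreSpan K (E R A p χ t) := by
    refine le_antisymm ?_ (Submodule.span_le.2 ?_)
    · rintro _ ⟨w, rfl⟩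
      induction w using TensorProduct.induction_on with
      | zero => simp
      | add v w hv hw => rw [map_add]; exact add_mem hv hw
      | tmul k m =>
        rw [LinearMap.baseChange_tmul, show k ⊗ₜ[R] ((E R A p χ t).subtype m) =
          k • ((1 : K) ⊗ₜ[R] (m : A)) by simp [TensorProduct.smul_tmul']]
        exact Submodule.smul_mem _ _ (Submodule.subset_span ⟨m, m.2, rfl⟩)
    · rintro _ ⟨a, ha, rfl⟩
      exact ⟨(1 : K) ⊗ₜ[R] (⟨a, ha⟩ : E R A p χ t), rfl⟩
  rw [← finrank_fibre q K (ker_geomPt q), (LinearEquiv.ofInjective _ hinj).finrank_eq, hr, (hxt t ht ht').2]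
  exact finrank_span_singleton (hxt t ht ht').1

theorem eq_zero_of_smul_eq_zero (i : ℕ) (r : R) (hr : ∀ a ∈ E R A p χ i, r • a = 0) : r = 0 := by
  have := h.finite i
  have := h.projective i
  refine Module.eq_zero_of_localization_maximal (fun P _ => Localization.AtPrime P)
    (fun P _ => Algebra.linearMap R (Localization.AtPrime P)) r fun P hP => ?_
  let S := Localization.AtPrime P
  have h1 : Module.finrank S (S ⊗[R] E R A p χ i) = 1 := by
    rw [← Module.rankAtStalk_eq_finrank_tensorProduct ⟨P, hP.isPrime⟩]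
    exact h.rank_eq_one i _
  have : Module.Free S (S ⊗[R] E R A p χ i) := Module.free_of_flat_of_isLocalRing
  let b := Module.finBasisOfFinrankEq S (S ⊗[R] E R A p χ i) h1
  have hzero : ∀ w : S ⊗[R] E R A p χ i, algebraMap R S r • w = 0 := fun w => by
    induction w using TensorProduct.induction_on with
    | zero => simp
    | add v w hv hw => rw [smul_add, hv, hw, add_zero]
    | tmul k a =>
      rw [algebraMap_smul, ← TensorProduct.tmul_smul,
        show r • a = 0 from Subtype.ext (hr a a.2), TensorProduct.tmul_zero]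
  have := congrArg (fun w => b.repr w 0) (hzero (b 0))
  simp only [map_smul, b.repr_self, Finsupp.smul_single, smul_eq_mul, mul_one, map_zero,
    Finsupp.single_eq_same, Finsupp.zero_apply] at this
  exact this

theorem mem_of_smul_eq_zero {t : ℕ} (ht : 1 ≤ t) (ht' : t ≤ p - 1) {s : R} {e : A}
    (hs : ∀ a ∈ E R A p χ 1, s • a ∈ R ∙ e) {c : R} (hc : c • e ^ t = 0) : s ^ t * c = 0 := by
  refine h.eq_zero_of_smul_eq_zero t _ fun a ha => ?_
  rw [← h.pow_eq t ht ht'] at ha
  obtain ⟨r, hr⟩ := Submodule.mem_span_singleton.1 (smul_pow_mem_span _ s e hs ht a ha)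
  rw [mul_comm, mul_smul, ← hr, smul_comm, hc, smul_zero]

theorem eq_zero_of_sum_eq_zero {e : A} (he : e ∈ E R A p χ 1) (c : Fin p → R)
    (hc : ∑ t : Fin p, c t • e ^ (t : ℕ) = 0) (t : Fin p) : c t • e ^ (t : ℕ) = 0 := by
  have hp2 := (Fact.out : p.Prime).two_le
  have hε : Bialgebra.counitAlgHom R A e = 0 := (mem_eigenAug.1 he).1
  have hεt : ∀ j : Fin p, (j : ℕ) ≠ 0 → Bialgebra.counitAlgHom R A (e ^ (j : ℕ)) = 0 := fun j hj => by
    rw [map_pow, hε, zero_pow hj]
  let z : Fin p := ⟨0, by omega⟩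
  have h0 : c z = 0 := by
    have h1 := congrArg (Bialgebra.counitAlgHom R A) hc
    rw [map_sum, map_zero, Finset.sum_eq_single z] at h1
    · simpa [z] using h1
    · intro j _ hj
      rw [map_smul, hεt j (fun h => hj (Fin.ext h)), smul_zero]
    · simp
  rcases eq_or_ne t z with rfl | ht
  · rw [h0, zero_smul]
  have ht0 : (t : ℕ) ≠ 0 := fun h => ht (Fin.ext h)
  have h1 := congrArg (π R A p u χ ((t : ℕ) % (p - 1))) hc
  rw [map_sum, map_zero, Finset.sum_eq_single t] at h1
  · rwa [map_smul, proj_eq_self h.hu (by rw [← eigenAug_mod]; exact pow_mem_eigenAug he (by omega))] at h1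
  · intro j _ hj
    rcases eq_or_ne j z with rfl | hjz
    · rw [h0, zero_smul, map_zero]
    have hj0 : (j : ℕ) ≠ 0 := fun h => hjz (Fin.ext h)
    have hmem : e ^ (j : ℕ) ∈ E R A p χ ((j : ℕ) % (p - 1)) := by
      rw [← eigenAug_mod]; exact pow_mem_eigenAug he (by omega)
    have hne : (⟨(t : ℕ) % (p - 1), Nat.mod_lt _ (by omega)⟩ : Fin (p - 1)) ≠
        ⟨(j : ℕ) % (p - 1), Nat.mod_lt _ (by omega)⟩ := by
      rw [Ne, Fin.mk.injEq]
      have h1 := t.2
      have h2 := j.2
      intro heq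
      apply hj
      apply Fin.ext
      rcases (show (t : ℕ) ≤ p - 1 by omega).lt_or_eq with ha | ha <;>
        rcases (show (j : ℕ) ≤ p - 1 by omega).lt_or_eq with hb | hb
      · rw [Nat.mod_eq_of_lt ha, Nat.mod_eq_of_lt hb] at heq; exact heq.symm
      · rw [Nat.mod_eq_of_lt ha, hb, Nat.mod_self] at heq; omega
      · rw [ha, Nat.mod_self, Nat.mod_eq_of_lt hb] at heq; omega
      · omega
    rw [map_smul, ← proj_eq_self h.hu hmem]
    erw [proj_proj_of_ne h.hu h.hχ h.hp hne]
    exact smul_zero _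
  · simp

end Setup

end Rank

end Groth.Agent.OortTate
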